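import Groth.Agent.NormSpLib.Over

/-! Normalisation in a sheaf with an affine chart, over an affine base. -/

set_option autoImplicit false
set_option backward.isDefEq.respectTransparency false
set_option backward.isDefEq.respectTransparency.types false

universe u

open CategoryTheory CategoryTheory.Limits AlgebraicGeometry Opposite AlgSp AlgSpLib TensorProduct

noncomputable section

namespace NormSpLib

variable {S : Scheme.{u}}

/-- The chart form of the normalisation: global functions are the integral invariant functions. -/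
structure IsNormChart {V N W R : Over S} (w : W ⟶ V) (t s : R ⟶ W) (ν : N ⟶ V) (gW : W ⟶ N) : Prop where
  affine : IsAffine N.left
  integral : IsIntegralHom ν.left
  fac : gW ≫ ν = w
  rel : t ≫ gW = s ≫ gW
  inj : Function.Injective gW.left.appTop
  surj : ∀ x : Γ(W.left, ⊤), t.left.appTop x = s.left.appTop x → w.left.appTop.hom.IsIntegralElem x →
    ∃ y, gW.left.appTop y = x

theorem exists_isNormChart {V W R : Over S} [IsAffine V.left] (w : W ⟶ V) (t s : R ⟶ W) (hts : t ≫ w = s ≫ w) :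
    ∃ (N : Over S) (ν : N ⟶ V) (gW : W ⟶ N), IsNormChart w t s ν gW := by
  algebraize [w.left.appTop.hom, (t ≫ w).left.appTop.hom]
  let f : Γ(W.left, ⊤) →ₐ[Γ(V.left, ⊤)] Γ(R.left, ⊤) :=
    { toRingHom := t.left.appTop.hom
      commutes' := fun b => by
        show t.left.appTop.hom (w.left.appTop.hom b) = (t ≫ w).left.appTop.hom b
        rw [Over.comp_left, Scheme.Hom.comp_appTop]; rfl }
  let g : Γ(W.left, ⊤) →ₐ[Γ(V.left, ⊤)] Γ(R.left, ⊤) :=
    { toRingHom := s.left.appTop.hom
      commutes' := fun b => by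
        show s.left.appTop.hom (w.left.appTop.hom b) = (t ≫ w).left.appTop.hom b
        rw [hts, Over.comp_left, Scheme.Hom.comp_appTop]; rfl }
  let A := intEq f g
  let φ : Γ(V.left, ⊤) ⟶ CommRingCat.of A := CommRingCat.ofHom (algebraMap Γ(V.left, ⊤) A)
  let ι : CommRingCat.of A ⟶ Γ(W.left, ⊤) := CommRingCat.ofHom A.val.toRingHom
  let ν₀ : Spec (CommRingCat.of A) ⟶ V.left := Spec.map φ ≫ V.left.isoSpec.inv
  let N : Over S := Over.mk (ν₀ ≫ V.hom)
  let ν : N ⟶ V := Over.homMk ν₀ rfl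
  let g₀ : W.left ⟶ Spec (CommRingCat.of A) := W.left.toSpecΓ ≫ Spec.map ι
  have hι : φ ≫ ι = w.left.appTop := CommRingCat.hom_ext (RingHom.ext fun b => rfl)
  have hg₀ : g₀.appTop = (Scheme.ΓSpecIso (CommRingCat.of A)).hom ≫ ι := by
    simp only [g₀, Scheme.Hom.comp_appTop, Scheme.toSpecΓ_appTop]
    simp [Scheme.ΓSpecIso_naturality]
  have hν₀ : ν₀.appTop = φ ≫ (Scheme.ΓSpecIso (CommRingCat.of A)).inv := by
    rw [Iso.eq_comp_inv]
    simp only [ν₀, Scheme.Hom.comp_appTop, Category.assoc]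
    simp [Scheme.isoSpec, Scheme.ΓSpecIso_naturality]
  have hw : g₀ ≫ ν₀ = w.left := ext_of_isAffine (by
    rw [Scheme.Hom.comp_appTop, hg₀, hν₀, Category.assoc, Iso.inv_hom_id_assoc, hι])
  let gW : W ⟶ N := Over.homMk g₀ (by
    show g₀ ≫ ν₀ ≫ V.hom = _
    rw [← Category.assoc, hw, Over.w w])
  refine ⟨N, ν, gW, inferInstanceAs (IsAffine (Spec (CommRingCat.of A))), ?_, Over.OverMorphism.ext hw,
    Over.OverMorphism.ext ?_, ?_, fun x hx hi => ?_⟩
  · haveI : IsIntegralHom (Spec.map φ) := by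
      rw [IsIntegralHom.SpecMap_iff]
      exact fun x => (isIntegral_algHom_iff A.val Subtype.val_injective).1 x.2.1
    exact inferInstanceAs (IsIntegralHom (Spec.map φ ≫ V.left.isoSpec.inv))
  · show t.left ≫ g₀ = s.left ≫ g₀
    apply ext_of_isAffine
    rw [show (t.left ≫ g₀).appTop = g₀.appTop ≫ t.left.appTop from Scheme.Hom.comp_appTop _ _,
      show (s.left ≫ g₀).appTop = g₀.appTop ≫ s.left.appTop from Scheme.Hom.comp_appTop _ _, hg₀, Category.assoc,
      Category.assoc]
    congr 1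
    exact CommRingCat.hom_ext (RingHom.ext fun a => a.2.2)
  · show Function.Injective g₀.appTop
    rw [hg₀]
    show Function.Injective (ι.hom ∘ (Scheme.ΓSpecIso (CommRingCat.of A)).hom.hom)
    exact Subtype.val_injective.comp (Scheme.ΓSpecIso (CommRingCat.of A)).commRingCatIsoToRingEquiv.injective
  · refine ⟨(Scheme.ΓSpecIso (CommRingCat.of A)).inv ⟨x, hi, hx⟩, ?_⟩
    show g₀.appTop _ = x
    rw [hg₀, ← CommRingCat.comp_apply, Iso.inv_hom_id_assoc]
    rfl

variable {V N W R : Over S} {w : W ⟶ V} {t s : R ⟶ W} {ν : N ⟶ V} {gW : W ⟶ N}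

/-- The chart form gives the normalisation. -/
theorem IsNormChart.isNormOver [IsAffine V.left] (hc : IsNormChart w t s ν gW) {F : Sp S}
    {p : F ⟶ (yon S).obj V} {a : (yon S).obj W ⟶ F} (ha : RepWith @Etale a) (has : RepWith @Surjective a)
    (sq : IsPullback ((yon S).map t) ((yon S).map s) a a) (hap : a ≫ p = (yon S).map w)
    {g : F ⟶ (yon S).obj N} (hg : a ≫ g = (yon S).map gW) : IsNormOver p ν g := by
  haveI := hc.affine
  haveI := hc.integral
  refine ⟨hom_ext_of_atlas ha has (by rw [← Category.assoc, hg, ← Functor.map_comp, hc.fac, hap]), hc.integral,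
    fun Z π hπ h₀ h₀p => ?_⟩
  haveI : IsAffine Z.left := isAffine_of_isAffineHom π.left
  obtain ⟨hW, hhW⟩ := (yon S).map_surjective (a ≫ h₀)
  have hWπ : hW ≫ π = w := (yon S).map_injective (by rw [Functor.map_comp, hhW, Category.assoc, h₀p, hap])
  have hts : t ≫ hW = s ≫ hW := (yon S).map_injective (by
    rw [Functor.map_comp, Functor.map_comp, hhW, reassoc_of% sq.w])
  have hl : ∀ z : Γ(Z.left, ⊤), ∃ y, gW.left.appTop y = hW.left.appTop z := fun z => by
    refine hc.surj _ ?_ ?_
    · rw [← CommRingCat.comp_apply, ← CommRingCat.comp_apply, ← Scheme.Hom.comp_appTop, ← Scheme.Hom.comp_appTop,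
        ← Over.comp_left, ← Over.comp_left, hts]
    · have hi : π.left.appTop.hom.IsIntegral :=
        π.left.isIntegral_app ⊤ (isAffineOpen_top _)
      rw [← hWπ, Over.comp_left, Scheme.Hom.comp_appTop, CommRingCat.hom_comp]
      obtain ⟨P, hP, hPz⟩ := hi z
      exact ⟨P, hP, by rw [← Polynomial.hom_eval₂, hPz, map_zero]⟩
  choose ψ hψ using hl
  let ψ' : Γ(Z.left, ⊤) ⟶ Γ(N.left, ⊤) := CommRingCat.ofHom
    { toFun := ψ
      map_one' := hc.inj (by rw [hψ, map_one, map_one])
      map_mul' := fun x y => hc.inj (by rw [hψ, map_mul, map_mul, hψ, hψ])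
      map_zero' := hc.inj (by rw [hψ, map_zero, map_zero])
      map_add' := fun x y => hc.inj (by rw [hψ, map_add, map_add, hψ, hψ]) }
  have hψ' : ψ' ≫ gW.left.appTop = hW.left.appTop := CommRingCat.hom_ext (RingHom.ext fun z => hψ z)
  obtain ⟨h, hh⟩ := exists_hom_appTop N.left ψ'
  have hhπ : h ≫ π.left = ν.left := ext_of_isAffine (by
    refine CommRingCat.hom_ext (RingHom.ext fun b => hc.inj ?_)
    have e : π.left.appTop ≫ ψ' ≫ gW.left.appTop = ν.left.appTop ≫ gW.left.appTop := by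
      rw [hψ', ← Scheme.Hom.comp_appTop, ← Scheme.Hom.comp_appTop, ← Over.comp_left, ← Over.comp_left, hWπ, hc.fac]
    rw [Scheme.Hom.comp_appTop, hh]
    exact RingHom.congr_fun (congrArg CommRingCat.Hom.hom e) b)
  let H : N ⟶ Z := Over.homMk h (by rw [← Over.w π, ← Category.assoc, hhπ, Over.w ν])
  have hH : gW ≫ H = hW := Over.OverMorphism.ext (ext_of_isAffine (by
    show (gW.left ≫ h).appTop = _
    rw [Scheme.Hom.comp_appTop, hh, hψ']))
  refine ⟨H, ⟨hom_ext_of_atlas ha has (by rw [← Category.assoc, hg, ← Functor.map_comp, hH, hhW]),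
    Over.OverMorphism.ext hhπ⟩, fun H' hH' => Over.OverMorphism.ext (ext_of_isAffine ?_)⟩
  show H'.left.appTop = h.appTop
  have e : gW ≫ H' = hW := (yon S).map_injective (by
    rw [Functor.map_comp, ← hg, Category.assoc, hH'.1, hhW])
  refine CommRingCat.hom_ext (RingHom.ext fun z => hc.inj ?_)
  rw [← CommRingCat.comp_apply, ← Scheme.Hom.comp_appTop, ← Over.comp_left, e, hh]
  exact (hψ z).symm

/-- Smooth base change of the chart form. -/
theorem IsNormChart.baseChange [IsAffine V.left] [IsAffine W.left] [CompactSpace R.left]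
    [QuasiSeparatedSpace R.left] (hc : IsNormChart w t s ν gW) (hts : t ≫ w = s ≫ w)
    {V' : Over S} [IsAffine V'.left] {q : V' ⟶ V} [Smooth q.left]
    {W' : Over S} {cW : W' ⟶ W} {w' : W' ⟶ V'} (sqW : IsPullback cW w' w q)
    {R' : Over S} {cR : R' ⟶ R} {r' : R' ⟶ V'} (sqR : IsPullback cR r' (t ≫ w) q)
    {t' s' : R' ⟶ W'} (ht : t' ≫ cW = cR ≫ t) (ht' : t' ≫ w' = r') (hs : s' ≫ cW = cR ≫ s) (hs' : s' ≫ w' = r')
    {N' : Over S} {c : N' ⟶ N} {ν' : N' ⟶ V'} (sqN : IsPullback c ν' ν q)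
    {gW' : W' ⟶ N'} (hg : gW' ≫ c = cW ≫ gW) (hg' : gW' ≫ ν' = w') : IsNormChart w' t' s' ν' gW' := by
  haveI := hc.affine
  haveI := hc.integral
  haveI : IsIntegralHom ν'.left := isIntegralHom_snd sqN
  have hsmooth : q.left.appTop.hom.Smooth := by
    simpa [Scheme.Hom.appLE] using q.left.smooth_appLE (isAffineOpen_top V.left) (isAffineOpen_top V'.left)
      (U := ⊤) (V := ⊤) (by simp)
  suffices H : Function.Injective gW'.left.appTop ∧ ∀ x : Γ(W'.left, ⊤), t'.left.appTop x = s'.left.appTop x →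
      w'.left.appTop.hom.IsIntegralElem x → ∃ y, gW'.left.appTop y = x by
    refine ⟨isAffine_of_isAffineHom ν'.left, inferInstance, hg', sqN.hom_ext ?_ ?_, H.1, H.2⟩
    · rw [Category.assoc, Category.assoc, hg, reassoc_of% ht, reassoc_of% hs, hc.rel]
    · rw [Category.assoc, Category.assoc, hg', ht', hs']
  algebraize [q.left.appTop.hom, w.left.appTop.hom, (t ≫ w).left.appTop.hom, ν.left.appTop.hom]
  haveI : Flat q.left := inferInstance
  obtain ⟨eW, heW⟩ := exists_tensor_equiv (isPushout_appTop_of_flat (isPullback_left sqW)).flip rfl rfl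
  obtain ⟨eR, heR⟩ := exists_tensor_equiv (isPushout_appTop_of_flat (isPullback_left sqR)).flip rfl rfl
  obtain ⟨eN, heN⟩ := exists_tensor_equiv (isPushout_appTop_of_flat (isPullback_left sqN)).flip rfl rfl
  let f : Γ(W.left, ⊤) →ₐ[Γ(V.left, ⊤)] Γ(R.left, ⊤) :=
    { toRingHom := t.left.appTop.hom
      commutes' := fun b => by
        show t.left.appTop.hom (w.left.appTop.hom b) = (t ≫ w).left.appTop.hom b
        rw [Over.comp_left, Scheme.Hom.comp_appTop]; rfl }
  let g : Γ(W.left, ⊤) →ₐ[Γ(V.left, ⊤)] Γ(R.left, ⊤) :=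
    { toRingHom := s.left.appTop.hom
      commutes' := fun b => by
        show s.left.appTop.hom (w.left.appTop.hom b) = (t ≫ w).left.appTop.hom b
        rw [hts, Over.comp_left, Scheme.Hom.comp_appTop]; rfl }
  let φ : Γ(N.left, ⊤) →ₐ[Γ(V.left, ⊤)] Γ(W.left, ⊤) :=
    { toRingHom := gW.left.appTop.hom
      commutes' := fun b => by
        show gW.left.appTop.hom (ν.left.appTop.hom b) = w.left.appTop.hom b
        rw [← hc.fac, Over.comp_left, Scheme.Hom.comp_appTop]; rfl }
  have hkey : ∀ {Wa Wb : Over S} (u : Wb ⟶ Wa) (y : Γ(V'.left, ⊤)) (wa : Wa ⟶ V') (wb : Wb ⟶ V')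
      (_ : u ≫ wa = wb), u.left.appTop (wa.left.appTop y) = wb.left.appTop y := fun u y wa wb h => by
    rw [← CommRingCat.comp_apply, ← Scheme.Hom.comp_appTop, ← Over.comp_left, h]
  have hkey' : ∀ {A A' B B' : Over S} (u : A' ⟶ B') (cB : B' ⟶ B) (cA : A' ⟶ A) (v : A ⟶ B)
      (_ : u ≫ cB = cA ≫ v) (z : Γ(B.left, ⊤)),
      u.left.appTop (cB.left.appTop z) = cA.left.appTop (v.left.appTop z) := fun u cB cA v h z => by
    rw [← CommRingCat.comp_apply, ← Scheme.Hom.comp_appTop, ← Over.comp_left, h, Over.comp_left,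
      Scheme.Hom.comp_appTop, CommRingCat.comp_apply]
  have hφ : ∀ z, gW'.left.appTop (eN z) =
      eW (Algebra.TensorProduct.map (AlgHom.id Γ(V'.left, ⊤) Γ(V'.left, ⊤)) φ z) := by
    intro z
    induction z with
    | zero => simp
    | add a b ha hb => simp only [map_add, ha, hb]
    | tmul a b =>
      rw [Algebra.TensorProduct.map_tmul, heW, heN, map_mul]
      exact congrArg₂ (· * ·) (hkey gW' a ν' w' hg') (hkey' gW' c cW gW hg b)
  constructor
  · intro x y hxy
    obtain ⟨x, rfl⟩ := eN.surjective x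
    obtain ⟨y, rfl⟩ := eN.surjective y
    rw [hφ, hφ] at hxy
    exact congrArg eN (Module.Flat.lTensor_preserves_injective_linearMap (M := Γ(V'.left, ⊤)) φ.toLinearMap hc.inj
      (eW.injective hxy))
  · intro x hx hi
    obtain ⟨x, rfl⟩ := eW.surjective x
    have hf : ∀ z, t'.left.appTop (eW z) = eR (Algebra.TensorProduct.map (AlgHom.id Γ(V'.left, ⊤) Γ(V'.left, ⊤)) f z) := by
      intro z
      induction z with
      | zero => simp
      | add a b ha hb => simp only [map_add, ha, hb]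
      | tmul a b =>
        rw [Algebra.TensorProduct.map_tmul, heW, heR, map_mul]
        exact congrArg₂ (· * ·) (hkey t' a w' r' ht') (hkey' t' cW cR t ht b)
    have hg₂ : ∀ z, s'.left.appTop (eW z) = eR (Algebra.TensorProduct.map (AlgHom.id Γ(V'.left, ⊤) Γ(V'.left, ⊤)) g z) := by
      intro z
      induction z with
      | zero => simp
      | add a b ha hb => simp only [map_add, ha, hb]
      | tmul a b =>
        rw [Algebra.TensorProduct.map_tmul, heW, heR, map_mul]
        exact congrArg₂ (· * ·) (hkey s' a w' r' hs') (hkey' s' cW cR s hs b)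
    have hint : IsIntegral Γ(V'.left, ⊤) x := by
      obtain ⟨P, hP, hPx⟩ := hi
      refine ⟨P, hP, eW.injective ?_⟩
      rw [map_zero, show eW _ = eW.toRingHom _ from rfl, Polynomial.hom_eval₂]
      have : eW.toRingHom.comp (algebraMap Γ(V'.left, ⊤) (Γ(V'.left, ⊤) ⊗[Γ(V.left, ⊤)] Γ(W.left, ⊤))) =
          w'.left.appTop.hom := RingHom.ext fun b => by
        show eW (b ⊗ₜ 1) = _
        rw [heW, map_one, mul_one]
      rw [this]
      exact hPx
    obtain ⟨z, hz⟩ := exists_intEq_preimage Γ(V'.left, ⊤) f g x hint (eR.injective (by rw [← hf, ← hg₂, hx]))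
    subst hz
    clear hx hi hint
    induction z with
    | zero => exact ⟨0, by simp⟩
    | add a b ha hb =>
      obtain ⟨a', ha'⟩ := ha
      obtain ⟨b', hb'⟩ := hb
      exact ⟨a' + b', by rw [map_add, ha', hb', map_add, map_add]⟩
    | tmul a b =>
      obtain ⟨b', hb'⟩ := hc.surj b.1 b.2.2 b.2.1
      refine ⟨eN (a ⊗ₜ b'), ?_⟩
      rw [hφ]
      exact congrArg (fun z => eW (a ⊗ₜ z)) hb'

end NormSpLib
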