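import Groth.Agent.NormSpLib.Main
import Groth.Agent.AlgSpLib.HasAtMore
import Groth.Agent.AlgSpLib.CodimZero
import Groth.Agent.AlgSpLib.RelDim2

/-! The injective chart of a normalisation. -/

set_option autoImplicit false
set_option backward.isDefEq.respectTransparency false
set_option backward.isDefEq.respectTransparency.types false

universe u

open CategoryTheory CategoryTheory.Limits AlgebraicGeometry Opposite AlgSp AlgSpLib

noncomputable section

namespace NormSpLib

variable {S : Scheme.{u}}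

/-- Over an affine base functions on the normalisation inject into those of an affine atlas, with integral image. -/
theorem exists_injective_chart {V N : Over S} [IsAffine V.left] {F : Sp S} {p : F ⟶ (yon S).obj V}
    (hqc : IsQuasiCompactMor p) (hqs : IsQuasiSeparatedMor p) {ν : N ⟶ V} [IsIntegralHom ν.left]
    {g : F ⟶ (yon S).obj N} (hn : IsRelNormalization p ((yon S).map ν) g) :
    ∃ (W : Over S) (a : (yon S).obj W ⟶ F) (gW : W ⟶ N), IsAffine W.left ∧ RepWith @Etale a ∧
      RepWith @Surjective a ∧ a ≫ g = (yon S).map gW ∧ IsAffine N.left ∧ Function.Injective gW.left.appTop := by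
  obtain ⟨W, a, hW, ha, has⟩ := exists_affine_chart
    (hqc (IsAlgSpace.yon_obj V) (isQuasiCompactSp_yon V) (𝟙 _) (𝟙 F) p IsPullback.of_id_fst)
  obtain ⟨w, hw⟩ := (yon S).map_surjective (a ≫ p)
  obtain ⟨R, t, s, sq⟩ : ∃ (R : Over S) (t s : R ⟶ W), IsPullback ((yon S).map t) ((yon S).map s) a a :=
    exists_isPullback_yon a a ha.rep
  have hts : t ≫ w = s ≫ w := (yon S).map_injective (by
    rw [Functor.map_comp, Functor.map_comp, hw, reassoc_of% sq.w])
  obtain ⟨N₀, ν₀, gW₀, hc⟩ := exists_isNormChart w t s hts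
  haveI := hc.integral
  obtain ⟨g₀, hg₀⟩ := exists_desc_of_atlas ha has ((yon S).map gW₀) fun Z u v e => by
    obtain ⟨r, hr⟩ := (yon S).map_surjective (sq.lift ((yon S).map u) ((yon S).map v) e)
    have hu : r ≫ t = u := (yon S).map_injective (by rw [Functor.map_comp, hr, sq.lift_fst])
    have hv : r ≫ s = v := (yon S).map_injective (by rw [Functor.map_comp, hr, sq.lift_snd])
    rw [← Functor.map_comp, ← Functor.map_comp, ← hu, ← hv, Category.assoc, Category.assoc, hc.rel]
  have hn₀ := hc.isNormOver ha has sq hw.symm hg₀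
  have hint : ∀ {M : Over S} (μ : M ⟶ V) [IsIntegralHom μ.left], IsIntegralMor ((yon S).map μ) := fun μ _ =>
    isIntegralMor_iff.2 ((repWith_yon_map_iff (P := (@IsIntegralHom : MorphismProperty Scheme.{u})) μ).2 inferInstance)
  obtain ⟨h', ⟨hh₁, hh₂⟩, -⟩ := hn.2.2 (IsAlgSpace.yon_obj N₀) _ g₀ (hint ν₀) hn₀.1
  obtain ⟨h, rfl⟩ := (yon S).map_surjective h'
  obtain ⟨k, ⟨hk₁, hk₂⟩, -⟩ := hn₀.2.2 ν inferInstance g hn.1
  have hkh : h ≫ k = 𝟙 N := (yon S).map_injective ((hn.2.2 (IsAlgSpace.yon_obj N) _ g (hint ν) hn.1).unique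
    ⟨by rw [Functor.map_comp, reassoc_of% hh₁, hk₁],
      by rw [← Functor.map_comp, Category.assoc, hk₂]; exact hh₂⟩
    ⟨by rw [CategoryTheory.Functor.map_id, Category.comp_id], by rw [CategoryTheory.Functor.map_id, Category.id_comp]⟩)
  haveI := hc.affine
  haveI : IsAffine N.left := isAffine_of_isAffineHom ν.left
  refine ⟨W, a, gW₀ ≫ k, hW, ha, has, by rw [Functor.map_comp, ← hg₀, Category.assoc, hk₁], inferInstance, ?_⟩
  show Function.Injective (gW₀.left ≫ k.left).appTop
  rw [Scheme.Hom.comp_appTop]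
  refine hc.inj.comp (Function.LeftInverse.injective (g := h.left.appTop) fun x => ?_)
  show h.left.appTop (k.left.appTop x) = x
  rw [← CommRingCat.comp_apply, ← Scheme.Hom.comp_appTop, ← Over.comp_left, hkh, Over.id_left,
    Scheme.Hom.id_appTop]
  rfl

/-- Maximal points lift along maps of affine schemes with injective functions. -/
theorem exists_maximal_lift {W N : Scheme.{u}} [IsAffine W] [IsAffine N] (f : W ⟶ N)
    (hf : Function.Injective f.appTop) (n : N) (hn : ∀ z, z ⤳ n → z = n) :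
    ∃ ξ : W, f ξ = n ∧ ∀ z, z ⤳ ξ → z = ξ := by
  suffices ∃ w, f w = n by
    obtain ⟨w, hw⟩ := this
    obtain ⟨ξ, hξ, hmax⟩ := exists_maximal_generization w
    exact ⟨ξ, hn _ (hw ▸ hξ.map f.continuous), hmax⟩
  let e := N.isoSpec.hom.homeomorph
  have hmin : (e n).asIdeal ∈ (RingHom.ker f.appTop.hom).minimalPrimes := by
    rw [(RingHom.injective_iff_ker_eq_bot _).1 hf]
    refine ⟨⟨(e n).2, bot_le⟩, fun q hq hle => ?_⟩
    have h₁ : (⟨q, hq.1⟩ : PrimeSpectrum Γ(N, ⊤)) ⤳ e n := (PrimeSpectrum.le_iff_specializes _ _).1 hle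
    have h₂ : e.symm ⟨q, hq.1⟩ ⤳ n := by
      have := h₁.map e.symm.continuous
      rwa [Homeomorph.symm_apply_apply] at this
    have h₃ := congrArg e (hn _ h₂)
    rw [Homeomorph.apply_symm_apply] at h₃
    rw [← h₃]
  obtain ⟨q, hq, -, hqn⟩ := Ideal.exists_comap_eq_of_mem_minimalPrimes (I := (⊥ : Ideal Γ(W, ⊤))) f.appTop.hom _
    (by rwa [← RingHom.ker_eq_comap_bot])
  refine ⟨W.isoSpec.inv ⟨q, hq⟩, e.injective ?_⟩
  show N.isoSpec.hom (f (W.isoSpec.inv ⟨q, hq⟩)) = e n
  rw [← Scheme.Hom.comp_apply, ← Scheme.Hom.comp_apply, ← Scheme.isoSpec_hom_naturality, Iso.inv_hom_id_assoc]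
  exact PrimeSpectrum.ext hqn

end NormSpLib
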