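import Groth.Agent.NormSpLib.StableCharts
import Groth.Agent.AlgSpLib.Bootstrap
import Groth.Agent.AlgSpLib.AffineDescent
import Groth.Agent.AlgSpLib.MorPack

/-! Descent of stable normalisations to algebraic spaces. -/

set_option autoImplicit false
set_option backward.isDefEq.respectTransparency false
set_option backward.isDefEq.respectTransparency.types false

universe u

open CategoryTheory CategoryTheory.Limits AlgebraicGeometry Opposite AlgSp AlgSpLib

noncomputable section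

namespace NormSpLib

variable {S : Scheme.{u}}

/-- A monomorphism of sheaves which is locally surjective is an isomorphism. -/
theorem isIso_of_mono_of_locallySurjective {F G : Sp S} (f : F ⟶ G) [Mono f] [Sheaf.IsLocallySurjective f] :
    IsIso f := by
  haveI : Epi f := (Sheaf.isLocallySurjective_iff_epi _).mp inferInstance
  exact isIso_of_mono_of_epi f

/-- Morphisms agree when they agree after an étale surjection. -/
theorem hom_ext_of_cover_map {F Y G : Sp S} (b : F ⟶ Y) (hb : RepWith @Etale b) (hbs : RepWith @Surjective b)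
    {x y : Y ⟶ G} (h : b ≫ x = b ≫ y) : x = y := by
  haveI : Sheaf.IsLocallySurjective b := isLocallySurjective_of_repWith
    (repWith_mono (fun _ _ g (_ : Etale g) => (inferInstance : Flat g)) hb)
    (repWith_mono (fun _ _ g (_ : Etale g) => (inferInstance : LocallyOfFinitePresentation g)) hb) hbs
  haveI : Epi b := (Sheaf.isLocallySurjective_iff_epi _).mp inferInstance
  exact (cancel_epi b).1 h

/-- An atlas chart of a normalisation gives the normalisation. -/
theorem isRelNormalization_of_chart {X Y X' : Sp S} {f : Y ⟶ X} {νX : X' ⟶ X} {f' : Y ⟶ X'}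
    (hff : f' ≫ νX = f) (hν : IsIntegralMor νX) {V : Over S} {φ : (yon S).obj V ⟶ X}
    (hφ : RepWith @Etale φ) (hφs : RepWith @Surjective φ)
    {F : Sp S} {bY : F ⟶ Y} {p : F ⟶ (yon S).obj V} (sqY : IsPullback bY p f φ)
    {N : Over S} {ν : N ⟶ V} {a' : (yon S).obj N ⟶ X'} (sqX : IsPullback a' ((yon S).map ν) νX φ)
    {g : F ⟶ (yon S).obj N} (hg : g ≫ (yon S).map ν = p) (hga : g ≫ a' = bY ≫ f')
    (hst : IsStableNorm p ν g) : IsRelNormalization f νX f' := by
  refine ⟨hff, hν, fun Z _ π h₀ hπ h₀π => ?_⟩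
  have hn := hst.isNormOver hg
  haveI : IsIntegralHom ν.left := hn.2.1
  have hπi := isIntegralMor_iff.1 hπ
  obtain ⟨ZV, z₁, z₂, sqZ, hz₂⟩ : ∃ (ZV : Over S) (z₁ : (yon S).obj ZV ⟶ Z) (z₂ : ZV ⟶ V),
      IsPullback z₁ ((yon S).map z₂) π φ ∧ IsIntegralHom z₂.left :=
    ⟨_, _, _, hπi.rep.isPullback φ, hπi.property_snd φ⟩
  haveI := hz₂
  let g₀ := sqZ.lift (bY ≫ h₀) p (by rw [Category.assoc, h₀π, sqY.w])
  have hg₀₁ : g₀ ≫ z₁ = bY ≫ h₀ := sqZ.lift_fst _ _ _
  obtain ⟨hV, ⟨hV₁, hV₂⟩, hVu⟩ := hn.2.2 z₂ hz₂ g₀ (sqZ.lift_snd _ _ _)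
  have ha' : RepWith @Etale a' := repWith_of_isPullback sqX.flip hφ
  have ha's : RepWith @Surjective a' := repWith_of_isPullback sqX.flip hφs
  obtain ⟨R, t, s, sq⟩ : ∃ (R : Over S) (t s : R ⟶ V), IsPullback ((yon S).map t) ((yon S).map s) φ φ :=
    exists_isPullback_yon φ φ hφ.rep
  haveI : Etale t.left := etale_left (repWith_of_isPullback sq.flip hφ)
  obtain ⟨NR, t', νR, sqN⟩ := exists_pb ν t
  obtain ⟨s', hs'a, hs'ν⟩ : ∃ s' : NR ⟶ N, (yon S).map s' ≫ a' = (yon S).map t' ≫ a' ∧ s' ≫ ν = νR ≫ s := by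
    obtain ⟨s', hs'⟩ := (yon S).map_surjective (sqX.lift ((yon S).map t' ≫ a') ((yon S).map (νR ≫ s)) (by
      rw [Category.assoc, sqX.w, ← Functor.map_comp_assoc, sqN.w, Functor.map_comp_assoc, Functor.map_comp_assoc,
        sq.w]))
    exact ⟨s', by rw [hs', sqX.lift_fst], (yon S).map_injective (by rw [Functor.map_comp, hs', sqX.lift_snd])⟩
  have key : (yon S).map (t' ≫ hV) ≫ z₁ = (yon S).map (s' ≫ hV) ≫ z₁ := by
    obtain ⟨k, hk⟩ := (yon S).map_surjective (sqZ.lift ((yon S).map (s' ≫ hV) ≫ z₁) ((yon S).map (νR ≫ t)) (by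
      rw [Category.assoc, sqZ.w, ← Functor.map_comp_assoc, Category.assoc, hV₂, hs'ν, Functor.map_comp_assoc,
        Functor.map_comp_assoc, sq.w]))
    have hk₁ : (yon S).map k ≫ z₁ = (yon S).map (s' ≫ hV) ≫ z₁ := by rw [hk, sqZ.lift_fst]
    have hk₂ : k ≫ z₂ = νR ≫ t := (yon S).map_injective (by rw [Functor.map_comp, hk, sqZ.lift_snd])
    have sqF := IsPullback.of_hasPullback p ((yon S).map t)
    let bt := pullback.fst p ((yon S).map t)
    let pR := pullback.snd p ((yon S).map t)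
    let gR := (isPullback_yon sqN).lift (bt ≫ g) pR (by rw [Category.assoc, hg]; exact sqF.w)
    have hgR₁ : gR ≫ (yon S).map t' = bt ≫ g := IsPullback.lift_fst _ _ _ _
    have hgR₂ : gR ≫ (yon S).map νR = pR := IsPullback.lift_snd _ _ _ _
    have hnR := hst t inferInstance bt pR sqF t' νR sqN gR hgR₁ hgR₂
    have e : t' ≫ hV = k := by
      refine hnR.lift_unique z₂ (q := t) (by rw [Category.assoc, hV₂, sqN.w]) hk₂ ?_
      apply sqZ.hom_ext
      · rw [Category.assoc, Category.assoc, hk₁]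
        have e₁ : gR ≫ (yon S).map s' ≫ a' = bt ≫ g ≫ a' := by
          rw [hs'a, reassoc_of% hgR₁]
        let bs := sqY.lift (bt ≫ bY) (pR ≫ (yon S).map s) (by
          simp only [Category.assoc]
          rw [sqY.w, reassoc_of% (sqF.w : bt ≫ p = pR ≫ (yon S).map t), sq.w])
        have e₂ : gR ≫ (yon S).map s' = bs ≫ g := by
          apply sqX.hom_ext
          · rw [Category.assoc, e₁, Category.assoc, hga, ← Category.assoc bs, sqY.lift_fst, Category.assoc]
          · rw [Category.assoc, ← Functor.map_comp, hs'ν, Functor.map_comp, reassoc_of% hgR₂, Category.assoc, hg,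
              sqY.lift_snd]
        rw [Functor.map_comp, Functor.map_comp, Category.assoc, Category.assoc, reassoc_of% e₂,
          reassoc_of% hgR₁, reassoc_of% hV₁, hg₀₁, ← Category.assoc bs, sqY.lift_fst, Category.assoc]
      · rw [Category.assoc, Category.assoc, ← Functor.map_comp, ← Functor.map_comp, Category.assoc, hV₂,
          sqN.w, hk₂]
    rw [← hk₁, e]
  obtain ⟨h, hh⟩ := exists_desc_of_atlas ha' ha's ((yon S).map hV ≫ z₁) fun T u v e => by
    obtain ⟨π', hπ'⟩ := (yon S).map_surjective (sq.lift ((yon S).map (u ≫ ν)) ((yon S).map (v ≫ ν)) (by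
      rw [Functor.map_comp_assoc, Functor.map_comp_assoc, ← sqX.w, reassoc_of% e]))
    have h₁ : π' ≫ t = u ≫ ν := (yon S).map_injective (by rw [Functor.map_comp, hπ', sq.lift_fst])
    have h₂ : π' ≫ s = v ≫ ν := (yon S).map_injective (by rw [Functor.map_comp, hπ', sq.lift_snd])
    obtain ⟨r, hr₁, hr₂⟩ : ∃ r, r ≫ t' = u ∧ r ≫ νR = π' :=
      ⟨sqN.lift u π' h₁.symm, sqN.lift_fst _ _ _, sqN.lift_snd _ _ _⟩
    have hr₃ : r ≫ s' = v := (yon S).map_injective (sqX.hom_ext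
      (by rw [Functor.map_comp, Category.assoc, hs'a, ← Functor.map_comp_assoc, hr₁, e])
      (by rw [← Functor.map_comp, ← Functor.map_comp, Category.assoc, hs'ν, reassoc_of% hr₂, h₂]))
    rw [← Functor.map_comp_assoc, ← Functor.map_comp_assoc, ← hr₁, ← hr₃, Category.assoc, Category.assoc,
      (yon S).map_comp r (t' ≫ hV), (yon S).map_comp r (s' ≫ hV), Category.assoc, Category.assoc, key]
  refine ⟨h, ⟨?_, ?_⟩, fun h' hh' => ?_⟩
  · have hb : bY ≫ f' ≫ h = bY ≫ h₀ := by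
      rw [← reassoc_of% hga, hh, reassoc_of% hV₁, hg₀₁]
    refine hom_ext_of_cover_map bY (repWith_of_isPullback sqY.flip hφ)
      (repWith_of_isPullback sqY.flip hφs) hb
  · refine hom_ext_of_atlas ha' ha's ?_
    rw [reassoc_of% hh, sqZ.w, ← Functor.map_comp_assoc, hV₂, sqX.w]
  · refine hom_ext_of_atlas ha' ha's ?_
    obtain ⟨l, hl⟩ := (yon S).map_surjective (sqZ.lift (a' ≫ h') ((yon S).map ν) (by
      rw [Category.assoc, hh'.2, sqX.w]))
    have : l = hV := hVu l ⟨sqZ.hom_ext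
      (by rw [Category.assoc, hl, sqZ.lift_fst, reassoc_of% hga, hh'.1, hg₀₁])
      (by rw [Category.assoc, hl, sqZ.lift_snd, hg, sqZ.lift_snd]),
      (yon S).map_injective (by rw [Functor.map_comp, hl, sqZ.lift_snd])⟩
    rw [hh, ← this, hl, sqZ.lift_fst]

/-- Data of a stable normalisation on an atlas descend. -/
theorem exists_descend {X Y : Sp S} (hX : IsAlgSpace X) (hY : IsAlgSpace Y) {f : Y ⟶ X} {V : Over S}
    {φ : (yon S).obj V ⟶ X} (hφ : RepWith @Etale φ) (hφs : RepWith @Surjective φ)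
    {F : Sp S} {bY : F ⟶ Y} {p : F ⟶ (yon S).obj V} (sqY : IsPullback bY p f φ)
    {N : Over S} {ν : N ⟶ V} [IsIntegralHom ν.left] {g : F ⟶ (yon S).obj N} (hg : g ≫ (yon S).map ν = p)
    (hst : IsStableNorm p ν g) :
    ∃ (X' : Sp S) (νX : X' ⟶ X) (f' : Y ⟶ X') (a' : (yon S).obj N ⟶ X'), IsAlgSpace X' ∧
      IsPullback a' ((yon S).map ν) νX φ ∧ g ≫ a' = bY ≫ f' ∧ IsRelNormalization f νX f' := by
  obtain ⟨R, t, s, sq⟩ : ∃ (R : Over S) (t s : R ⟶ V), IsPullback ((yon S).map t) ((yon S).map s) φ φ :=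
    exists_isPullback_yon φ φ hφ.rep
  have hR := isEtaleEqvRel_of_isPullback hφ sq
  haveI : Etale t.left := hR.etale_right
  haveI : Etale s.left := hR.etale_left
  obtain ⟨NR, t', νR, sqN⟩ := exists_pb ν t
  have sqF := IsPullback.of_hasPullback p ((yon S).map t)
  let bt := pullback.fst p ((yon S).map t)
  let pR := pullback.snd p ((yon S).map t)
  have hbt : bt ≫ p = pR ≫ (yon S).map t := sqF.w
  let bs := sqY.lift (bt ≫ bY) (pR ≫ (yon S).map s) (by
    rw [Category.assoc, sqY.w, reassoc_of% hbt, sq.w, Category.assoc])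
  have hbs₁ : bs ≫ bY = bt ≫ bY := sqY.lift_fst _ _ _
  have hbs₂ : bs ≫ p = pR ≫ (yon S).map s := sqY.lift_snd _ _ _
  let gR := (isPullback_yon sqN).lift (bt ≫ g) pR (by rw [Category.assoc, hg]; exact sqF.w)
  have hgR₁ : gR ≫ (yon S).map t' = bt ≫ g := IsPullback.lift_fst _ _ _ _
  have hgR₂ : gR ≫ (yon S).map νR = pR := IsPullback.lift_snd _ _ _ _
  have hstR : IsStableNorm pR νR gR := hst.bc sqF sqN hgR₁ hgR₂
  have hnR := hstR.isNormOver hgR₂
  have hn := hst.isNormOver hg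
  obtain ⟨s', ⟨hs'g, hs'ν⟩, -⟩ := hnR.exists_lift ν s (bs ≫ g) (by rw [Category.assoc, hg, hbs₂])
  -- identity
  obtain ⟨e, he₁, he₂⟩ := (hR.equivalence V).refl (𝟙 V)
  let e' : N ⟶ NR := sqN.lift (𝟙 N) (ν ≫ e) (by rw [Category.id_comp, Category.assoc, he₁, Category.comp_id])
  have he'₁ : e' ≫ t' = 𝟙 N := sqN.lift_fst _ _ _
  have he'₂ : e' ≫ νR = ν ≫ e := sqN.lift_snd _ _ _
  let eF : F ⟶ _ := sqF.lift (𝟙 F) (p ≫ (yon S).map e) (by
    rw [Category.id_comp, Category.assoc, ← Functor.map_comp, he₁, CategoryTheory.Functor.map_id, Category.comp_id])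
  have heF₁ : eF ≫ bt = 𝟙 F := sqF.lift_fst _ _ _
  have heF₂ : eF ≫ pR = p ≫ (yon S).map e := sqF.lift_snd _ _ _
  have he's : e' ≫ s' = 𝟙 N := by
    refine hn.lift_unique ν (q := 𝟙 V) (by rw [Category.assoc, hs'ν, reassoc_of% he'₂, he₂]) (by simp) ?_
    have h₁ : g ≫ (yon S).map e' = eF ≫ gR := (isPullback_yon sqN).hom_ext
      (by rw [Category.assoc, ← Functor.map_comp, he'₁, CategoryTheory.Functor.map_id, Category.comp_id,
        Category.assoc, hgR₁, reassoc_of% heF₁])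
      (by rw [Category.assoc, ← Functor.map_comp, he'₂, Functor.map_comp, reassoc_of% hg, Category.assoc, hgR₂, heF₂])
    have h₂ : eF ≫ bs = 𝟙 F := sqY.hom_ext
      (by rw [Category.assoc, hbs₁, reassoc_of% heF₁, Category.id_comp])
      (by rw [Category.assoc, hbs₂, reassoc_of% heF₂, ← Functor.map_comp, he₂, CategoryTheory.Functor.map_id,
        Category.comp_id, Category.id_comp])
    rw [Functor.map_comp, reassoc_of% h₁, hs'g, reassoc_of% h₂, CategoryTheory.Functor.map_id, Category.comp_id]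
  -- inversion
  obtain ⟨σ, hσ₁, hσ₂⟩ := (hR.equivalence R).symm (show ∃ r : R ⟶ R, r ≫ t = t ∧ r ≫ s = s from ⟨𝟙 R, by simp, by simp⟩)
  have hσσ : σ ≫ σ = 𝟙 R := hR.injective R _ _ (by rw [Category.assoc, hσ₁, hσ₂, Category.id_comp])
    (by rw [Category.assoc, hσ₂, hσ₁, Category.id_comp])
  let σ' : NR ⟶ NR := sqN.lift s' (νR ≫ σ) (by rw [hs'ν, Category.assoc, hσ₁])
  have hσ'₁ : σ' ≫ t' = s' := sqN.lift_fst _ _ _
  have hσ'₂ : σ' ≫ νR = νR ≫ σ := sqN.lift_snd _ _ _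
  have hσ's : σ' ≫ s' = t' := by
    let σF := sqF.lift bs (pR ≫ (yon S).map σ) (by rw [hbs₂, Category.assoc, ← Functor.map_comp, hσ₁])
    have hσF₁ : σF ≫ bt = bs := sqF.lift_fst _ _ _
    have hσF₂ : σF ≫ pR = pR ≫ (yon S).map σ := sqF.lift_snd _ _ _
    refine hnR.lift_unique ν (q := t) (by rw [Category.assoc, hs'ν, reassoc_of% hσ'₂, hσ₂]) sqN.w ?_
    have h₁ : gR ≫ (yon S).map σ' = σF ≫ gR := (isPullback_yon sqN).hom_ext
      (by rw [Category.assoc, ← Functor.map_comp, hσ'₁, hs'g, Category.assoc, hgR₁, reassoc_of% hσF₁])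
      (by rw [Category.assoc, ← Functor.map_comp, hσ'₂, Functor.map_comp, reassoc_of% hgR₂, Category.assoc, hgR₂,
        hσF₂])
    have h₂ : σF ≫ bs = bt := sqY.hom_ext
      (by rw [Category.assoc, hbs₁, reassoc_of% hσF₁, hbs₁])
      (by rw [Category.assoc, hbs₂, reassoc_of% hσF₂, ← Functor.map_comp, hσ₂, hbt])
    rw [Functor.map_comp, reassoc_of% h₁, hs'g, reassoc_of% h₂, hgR₁]
  have hσ'σ' : σ' ≫ σ' = 𝟙 NR := sqN.hom_ext
    (by rw [Category.assoc, hσ'₁, hσ's, Category.id_comp])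
    (by rw [Category.assoc, hσ'₂, reassoc_of% hσ'₂, hσσ, Category.comp_id, Category.id_comp])
  haveI : IsIso σ' := ⟨σ', hσ'σ', hσ'σ'⟩
  have het' : Etale t'.left := MorphismProperty.of_isPullback (P := @Etale) (isPullback_left sqN).flip inferInstance
  have hes' : Etale s'.left := by
    rw [← hσ'₁, Over.comp_left]
    haveI : IsIso σ'.left := inferInstanceAs (IsIso ((Over.forget S).map σ'))
    haveI := het'
    infer_instance
  -- composition
  obtain ⟨R₂, π₁, π₂, sqR⟩ := exists_pb s t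
  haveI : Etale π₁.left := MorphismProperty.of_isPullback (P := @Etale) (isPullback_left sqR).flip inferInstance
  obtain ⟨μ, hμ₁, hμ₂⟩ := (hR.equivalence R₂).trans
    (show ∃ r : R₂ ⟶ R, r ≫ t = π₁ ≫ t ∧ r ≫ s = π₁ ≫ s from ⟨π₁, rfl, rfl⟩)
    (show ∃ r : R₂ ⟶ R, r ≫ t = π₁ ≫ s ∧ r ≫ s = π₂ ≫ s from ⟨π₂, sqR.w.symm, rfl⟩)
  obtain ⟨N₂, κ₁, ν₂, sqN₂⟩ := exists_pb νR π₁
  have sqF₂ := IsPullback.of_hasPullback pR ((yon S).map π₁)
  let β₁ := pullback.fst pR ((yon S).map π₁)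
  let p₂ := pullback.snd pR ((yon S).map π₁)
  have hβ₁ : β₁ ≫ pR = p₂ ≫ (yon S).map π₁ := sqF₂.w
  let g₂ := (isPullback_yon sqN₂).lift (β₁ ≫ gR) p₂ (by rw [Category.assoc, hgR₂]; exact sqF₂.w)
  have hg₂₁ : g₂ ≫ (yon S).map κ₁ = β₁ ≫ gR := IsPullback.lift_fst _ _ _ _
  have hg₂₂ : g₂ ≫ (yon S).map ν₂ = p₂ := IsPullback.lift_snd _ _ _ _
  have hn₂ := (hstR.bc sqF₂ sqN₂ hg₂₁ hg₂₂).isNormOver hg₂₂
  have hN₂ : κ₁ ≫ νR = ν₂ ≫ π₁ := sqN₂.w
  let κ₂ : N₂ ⟶ NR := sqN.lift (κ₁ ≫ s') (ν₂ ≫ π₂) (by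
    rw [Category.assoc, hs'ν, reassoc_of% hN₂, sqR.w, Category.assoc])
  have hκ₂₁ : κ₂ ≫ t' = κ₁ ≫ s' := sqN.lift_fst _ _ _
  have hκ₂₂ : κ₂ ≫ νR = ν₂ ≫ π₂ := sqN.lift_snd _ _ _
  let μ' : N₂ ⟶ NR := sqN.lift (κ₁ ≫ t') (ν₂ ≫ μ) (by
    rw [Category.assoc, sqN.w, reassoc_of% hN₂, Category.assoc, hμ₁])
  have hμ'₁ : μ' ≫ t' = κ₁ ≫ t' := sqN.lift_fst _ _ _
  have hμ'₂ : μ' ≫ νR = ν₂ ≫ μ := sqN.lift_snd _ _ _
  have hμ's : μ' ≫ s' = κ₂ ≫ s' := by
    refine hn₂.lift_unique ν (q := μ ≫ s) (by rw [Category.assoc, hs'ν, reassoc_of% hμ'₂])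
      (by rw [Category.assoc, hs'ν, reassoc_of% hκ₂₂, hμ₂]) ?_
    let β₂ := sqF.lift (β₁ ≫ bs) (p₂ ≫ (yon S).map π₂) (by
      rw [Category.assoc, hbs₂, reassoc_of% hβ₁, ← Functor.map_comp, sqR.w, Functor.map_comp, Category.assoc])
    have hβ₂₁ : β₂ ≫ bt = β₁ ≫ bs := sqF.lift_fst _ _ _
    have hβ₂₂ : β₂ ≫ pR = p₂ ≫ (yon S).map π₂ := sqF.lift_snd _ _ _
    let μF := sqF.lift (β₁ ≫ bt) (p₂ ≫ (yon S).map μ) (by
      rw [Category.assoc, hbt, reassoc_of% hβ₁, Category.assoc, ← Functor.map_comp, ← Functor.map_comp, hμ₁])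
    have hμF₁ : μF ≫ bt = β₁ ≫ bt := sqF.lift_fst _ _ _
    have hμF₂ : μF ≫ pR = p₂ ≫ (yon S).map μ := sqF.lift_snd _ _ _
    have h₁ : g₂ ≫ (yon S).map μ' = μF ≫ gR := (isPullback_yon sqN).hom_ext
      (by rw [Category.assoc, ← Functor.map_comp, hμ'₁, Functor.map_comp, reassoc_of% hg₂₁, hgR₁, Category.assoc,
        hgR₁, reassoc_of% hμF₁])
      (by rw [Category.assoc, ← Functor.map_comp, hμ'₂, Functor.map_comp, reassoc_of% hg₂₂, Category.assoc, hgR₂,
        hμF₂])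
    have h₂ : g₂ ≫ (yon S).map κ₂ = β₂ ≫ gR := (isPullback_yon sqN).hom_ext
      (by rw [Category.assoc, ← Functor.map_comp, hκ₂₁, Functor.map_comp, reassoc_of% hg₂₁, hs'g, Category.assoc,
        hgR₁, reassoc_of% hβ₂₁])
      (by rw [Category.assoc, ← Functor.map_comp, hκ₂₂, Functor.map_comp, reassoc_of% hg₂₂, Category.assoc, hgR₂,
        hβ₂₂])
    have h₃ : μF ≫ bs = β₂ ≫ bs := sqY.hom_ext
      (by rw [Category.assoc, hbs₁, reassoc_of% hμF₁, Category.assoc, hbs₁, reassoc_of% hβ₂₁, hbs₁])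
      (by rw [Category.assoc, hbs₂, reassoc_of% hμF₂, Category.assoc, hbs₂, reassoc_of% hβ₂₂, ← Functor.map_comp,
        ← Functor.map_comp, hμ₂])
    rw [Functor.map_comp, Functor.map_comp, reassoc_of% h₁, hs'g, reassoc_of% h₂, hs'g, reassoc_of% h₃]
  -- the relation
  have hrel : IsEtaleEqvRel s' t' :=
    { injective := fun T r r' h₁ h₂ => sqN.hom_ext h₁ (hR.injective T _ _
        (by rw [Category.assoc, Category.assoc, ← sqN.w, reassoc_of% h₁])
        (by rw [Category.assoc, Category.assoc, ← hs'ν, reassoc_of% h₂]))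
      equivalence := fun T =>
        { refl := fun a => ⟨a ≫ e', by rw [Category.assoc, he'₁, Category.comp_id],
            by rw [Category.assoc, he's, Category.comp_id]⟩
          symm := fun {a b} hab => by
            obtain ⟨r, h₁, h₂⟩ := hab
            exact ⟨r ≫ σ', by rw [Category.assoc, hσ'₁, h₂], by rw [Category.assoc, hσ's, h₁]⟩
          trans := fun {a b c} hab hbc => by
            obtain ⟨r₁, h₁, h₂⟩ := hab
            obtain ⟨r₂, h₃, h₄⟩ := hbc
            have w : (r₁ ≫ νR) ≫ s = (r₂ ≫ νR) ≫ t := by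
              rw [Category.assoc, Category.assoc, ← hs'ν, ← sqN.w, reassoc_of% h₂, reassoc_of% h₃]
            let π := sqR.lift (r₁ ≫ νR) (r₂ ≫ νR) w
            let z := sqN₂.lift r₁ π (sqR.lift_fst _ _ _).symm
            have hz₁ : z ≫ κ₁ = r₁ := sqN₂.lift_fst _ _ _
            have hz₂ : z ≫ ν₂ = π := sqN₂.lift_snd _ _ _
            have hzκ : z ≫ κ₂ = r₂ := sqN.hom_ext
              (by rw [Category.assoc, hκ₂₁, reassoc_of% hz₁, h₂, h₃])
              (by rw [Category.assoc, hκ₂₂, reassoc_of% hz₂, sqR.lift_snd])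
            exact ⟨z ≫ μ', by rw [Category.assoc, hμ'₁, reassoc_of% hz₁, h₁],
              by rw [Category.assoc, hμ's, reassoc_of% hzκ, h₄]⟩ }
      etale_left := hes'
      etale_right := het' }
  have hP := isPresentation_qπ s' t' hrel
  have sqP := isPullback_qπ s' t' hrel.toIsEqvRel
  let X' := QuotSh.quot Scheme.fppfPrecoverage s' t'
  let a' : (yon S).obj N ⟶ X' := qπ s' t'
  have hX' : IsAlgSpace X' := isAlgSpace_quot s' t' hrel
  have hlift : ∀ (T : Over S) (u v : T ⟶ N), (yon S).map u ≫ a' = (yon S).map v ≫ a' →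
      ∃ r, r ≫ t' = u ∧ r ≫ s' = v := fun T u v h => by
    obtain ⟨r, hr⟩ := (yon S).map_surjective (sqP.lift _ _ h)
    exact ⟨r, (yon S).map_injective (by rw [Functor.map_comp, hr, sqP.lift_fst]),
      (yon S).map_injective (by rw [Functor.map_comp, hr, sqP.lift_snd])⟩
  obtain ⟨ha', ha's⟩ : RepWith @Etale a' ∧ RepWith @Surjective a' :=
    ⟨(isAlgSpace_of_kernelPair sqP hrel).2.1, (isAlgSpace_of_kernelPair sqP hrel).2.2.1⟩
  obtain ⟨νX, hνX⟩ := exists_desc_of_atlas ha' ha's ((yon S).map ν ≫ φ) fun T u v h => by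
    obtain ⟨r, rfl, rfl⟩ := hlift T u v h
    rw [← Functor.map_comp_assoc, ← Functor.map_comp_assoc, Category.assoc, Category.assoc, sqN.w, hs'ν]
    simp only [Functor.map_comp, Category.assoc, sq.w]
  -- the square
  have sqX : IsPullback a' ((yon S).map ν) νX φ := by
    let c := pullback.lift a' ((yon S).map ν) hνX
    have hc₁ : c ≫ pullback.fst νX φ = a' := pullback.lift_fst _ _ _
    have hc₂ : c ≫ pullback.snd νX φ = (yon S).map ν := pullback.lift_snd _ _ _
    haveI : Mono c := ⟨fun {H} u v h => hom_ext_sheaf fun T x => by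
      obtain ⟨u₀, hu₀⟩ := (yon S).map_surjective (x ≫ u)
      obtain ⟨v₀, hv₀⟩ := (yon S).map_surjective (x ≫ v)
      have hh : (yon S).map u₀ ≫ c = (yon S).map v₀ ≫ c := by
        rw [hu₀, hv₀, Category.assoc, Category.assoc, h]
      have h₁ : (yon S).map u₀ ≫ a' = (yon S).map v₀ ≫ a' := by
        rw [← hc₁, reassoc_of% hh]
      have h₂ : u₀ ≫ ν = v₀ ≫ ν := (yon S).map_injective (by
        rw [Functor.map_comp, Functor.map_comp, ← hc₂, reassoc_of% hh])
      obtain ⟨r, hr₁, hr₂⟩ := hlift T u₀ v₀ h₁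
      have hπ : r ≫ νR = u₀ ≫ ν ≫ e := hR.injective T _ _
        (by rw [Category.assoc, ← sqN.w, reassoc_of% hr₁, Category.assoc, Category.assoc, he₁, Category.comp_id])
        (by rw [Category.assoc, ← hs'ν, reassoc_of% hr₂, ← h₂, Category.assoc, Category.assoc, he₂,
          Category.comp_id])
      have hr : r = u₀ ≫ e' := sqN.hom_ext
        (by rw [hr₁, Category.assoc, he'₁, Category.comp_id]) (by rw [hπ, Category.assoc, he'₂])
      rw [← hu₀, ← hv₀, ← hr₂, hr, Category.assoc, he's, Category.comp_id]⟩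
    haveI : Sheaf.IsLocallySurjective a' := inferInstanceAs (Sheaf.IsLocallySurjective (qπ s' t'))
    haveI : Sheaf.IsLocallySurjective c := by
      refine ⟨fun {T} z => ?_⟩
      let d : (yon S).obj T ⟶ pullback νX φ := yEq.symm z
      refine GrothendieckTopology.superset_covering _ ?_
        (Presheaf.imageSieve_mem (AlgSp.J S) a'.hom (yEq (d ≫ pullback.fst νX φ)))
      rintro W i ⟨y, hy⟩
      obtain ⟨y₀, hy₀⟩ := (yon S).map_surjective (yEq.symm y)
      have e₁ : (yon S).map y₀ ≫ a' = ((yon S).map i ≫ d) ≫ pullback.fst νX φ := by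
        rw [hy₀, Category.assoc]
        apply yEq.injective
        rw [yEq_comp, Equiv.apply_symm_apply, yEq_map]
        exact hy
      obtain ⟨v₀, hv₀⟩ := (yon S).map_surjective (((yon S).map i ≫ d) ≫ pullback.snd νX φ)
      obtain ⟨ρ, hρ⟩ := (yon S).map_surjective (sq.lift ((yon S).map (y₀ ≫ ν)) ((yon S).map v₀) (by
        rw [hv₀, Functor.map_comp_assoc, ← hνX, reassoc_of% e₁]
        simp only [Category.assoc, pullback.condition]))
      have hρ₁ : ρ ≫ t = y₀ ≫ ν := (yon S).map_injective (by rw [Functor.map_comp, hρ, sq.lift_fst])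
      have hρ₂ : ρ ≫ s = v₀ := (yon S).map_injective (by rw [Functor.map_comp, hρ, sq.lift_snd])
      let l := sqN.lift y₀ ρ hρ₁.symm
      have hl₁ : l ≫ t' = y₀ := sqN.lift_fst _ _ _
      have hl₂ : l ≫ νR = ρ := sqN.lift_snd _ _ _
      refine ⟨yEq ((yon S).map (l ≫ s')), (yEq_comp _ c).symm.trans ?_⟩
      have key : (yon S).map (l ≫ s') ≫ c = (yon S).map i ≫ d := by
        apply pullback.hom_ext
        · rw [Category.assoc, hc₁, Functor.map_comp, Category.assoc, ← sqP.w, ← Functor.map_comp_assoc, hl₁, e₁]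
        · rw [Category.assoc, hc₂, ← Functor.map_comp, Category.assoc, hs'ν, reassoc_of% hl₂, hρ₂, hv₀]
      rw [key, yEq_map, Equiv.apply_symm_apply]
    haveI := isIso_of_mono_of_locallySurjective c
    exact (IsPullback.of_hasPullback νX φ).of_iso (asIso c).symm (Iso.refl _) (Iso.refl _) (Iso.refl _)
      (by simp [← hc₁]) (by simp [← hc₂]) (by simp) (by simp)
  have hνi : IsIntegralMor νX := isIntegralMor_iff.2 (repWith_of_etale_cover
    (fun _ _ h (_ : IsIntegralHom h) => (inferInstance : IsAffineHom h)) hφ hφs sqX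
    ((repWith_yon_map_iff (P := (@IsIntegralHom : MorphismProperty Scheme.{u})) ν).2 inferInstance))
  -- the map from `Y`
  have hF : IsAlgSpace F := isAlgSpace_of_isPullback hY (IsAlgSpace.yon_obj V) hX sqY
  obtain ⟨W, aF, haF, haFs⟩ := hF.atlas
  have hbY : RepWith @Etale bY := repWith_of_isPullback sqY.flip hφ
  have hbYs : RepWith @Surjective bY := repWith_of_isPullback sqY.flip hφs
  have haY : RepWith @Etale (aF ≫ bY) := repWith_comp haF hbY
  have haYs : RepWith @Surjective (aF ≫ bY) := repWith_comp haFs hbYs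
  obtain ⟨f', hf'⟩ := exists_desc_of_atlas haY haYs (aF ≫ g ≫ a') fun T u v h => by
    have h' : ((yon S).map u ≫ aF) ≫ bY = ((yon S).map v ≫ aF) ≫ bY := by
      simpa only [Category.assoc] using h
    obtain ⟨π, hπ⟩ := (yon S).map_surjective (sq.lift (((yon S).map u ≫ aF) ≫ p) (((yon S).map v ≫ aF) ≫ p) (by
      rw [Category.assoc, Category.assoc, ← sqY.w, ← Category.assoc, ← Category.assoc, h', Category.assoc,
        Category.assoc]
      simp only [Category.assoc, sqY.w]))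
    have hπ₁ : (yon S).map π ≫ (yon S).map t = ((yon S).map u ≫ aF) ≫ p := by rw [hπ, sq.lift_fst]
    have hπ₂ : (yon S).map π ≫ (yon S).map s = ((yon S).map v ≫ aF) ≫ p := by rw [hπ, sq.lift_snd]
    let z := sqF.lift ((yon S).map u ≫ aF) ((yon S).map π) hπ₁.symm
    have hz₁ : z ≫ bt = (yon S).map u ≫ aF := sqF.lift_fst _ _ _
    have hz₂ : z ≫ pR = (yon S).map π := sqF.lift_snd _ _ _
    have hz₃ : z ≫ bs = (yon S).map v ≫ aF := sqY.hom_ext
      (by rw [Category.assoc, hbs₁, ← Category.assoc, hz₁, h'])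
      (by rw [Category.assoc, hbs₂, ← Category.assoc, hz₂, hπ₂])
    have key : z ≫ gR ≫ (yon S).map t' ≫ a' = z ≫ gR ≫ (yon S).map s' ≫ a' := by rw [sqP.w]
    rw [reassoc_of% hgR₁, reassoc_of% hs'g, reassoc_of% hz₁, reassoc_of% hz₃] at key
    exact key
  have hga : g ≫ a' = bY ≫ f' := hom_ext_of_atlas haF haFs (by rw [← hf', Category.assoc])
  have hff : f' ≫ νX = f := hom_ext_of_cover_map bY hbY hbYs (by
    rw [← reassoc_of% hga, hνX, reassoc_of% hg, sqY.w])
  exact ⟨X', νX, f', a', hX', sqX, hga, isRelNormalization_of_chart hff hνi hφ hφs sqY sqX hg hga hst⟩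

/-- An atlas which is a disjoint union of affine schemes. -/
theorem exists_affine_disjoint_atlas {X : Sp S} (hX : IsAlgSpace X) :
    ∃ (V : Over S) (φ : (yon S).obj V ⟶ X) (κ : Type u) (Vi : κ → Over S) (si : ∀ i, Vi i ⟶ V),
      RepWith @Etale φ ∧ RepWith @Surjective φ ∧ (∀ i, IsOpenImmersion (si i).left) ∧ (∀ i, IsAffine (Vi i).left) ∧
      (∀ v : V.left, ∃ i, v ∈ Set.range (si i).left) ∧
      ∀ i j, i ≠ j → Disjoint (Set.range (si i).left) (Set.range (si j).left) := by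
  obtain ⟨U, a, ha, has⟩ := hX.atlas
  let 𝒰 := U.left.affineCover
  let k : ∐ 𝒰.X ⟶ U.left := Sigma.desc 𝒰.f
  haveI : Etale k := IsZariskiLocalAtSource.sigmaDesc (P := @Etale) fun i => inferInstance
  haveI : Surjective k := ⟨fun x => by
    refine ⟨Sigma.ι 𝒰.X (𝒰.idx x) (𝒰.covers x).choose, ?_⟩
    rw [← Scheme.Hom.comp_apply, Sigma.ι_desc]
    exact (𝒰.covers x).choose_spec⟩
  let V : Over S := Over.mk (k ≫ U.hom)
  let q : V ⟶ U := Over.homMk k rfl
  let Vi : 𝒰.I₀ → Over S := fun i => Over.mk (Sigma.ι 𝒰.X i ≫ k ≫ U.hom)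
  let si : ∀ i, Vi i ⟶ V := fun i => Over.homMk (Sigma.ι 𝒰.X i) rfl
  refine ⟨V, (yon S).map q ≫ a, 𝒰.I₀, Vi, si,
    repWith_comp ((repWith_yon_map_iff (P := (@Etale : MorphismProperty Scheme.{u})) q).2
      (inferInstanceAs (Etale k))) ha,
    repWith_comp ((repWith_yon_map_iff (P := (@Surjective : MorphismProperty Scheme.{u})) q).2
      (inferInstanceAs (Surjective k))) has, fun i => inferInstanceAs (IsOpenImmersion (Sigma.ι 𝒰.X i)),
    fun i => inferInstanceAs (IsAffine (𝒰.X i)), fun v => ?_, fun i j h => ?_⟩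
  · exact ⟨_, ((sigmaOpenCover 𝒰.X).covers v).choose, ((sigmaOpenCover 𝒰.X).covers v).choose_spec⟩
  · exact Set.disjoint_left.2 fun x ⟨y, hy⟩ ⟨y', hy'⟩ => h (congrArg Sigma.fst
      ((sigmaι_eq_iff 𝒰.X i j y y').1 (hy.trans hy'.symm)))

/-- Existence of the normalisation, with stable charts on a disjoint affine atlas. -/
theorem exists_norm_chart {X Y : Sp S} (hX : IsAlgSpace X) (hY : IsAlgSpace Y) (f : Y ⟶ X)
    (hqc : IsQuasiCompactMor f) (hqs : IsQuasiSeparatedMor f) :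
    ∃ (V : Over S) (φ : (yon S).obj V ⟶ X) (F : Sp S) (bY : F ⟶ Y) (p : F ⟶ (yon S).obj V)
      (X' : Sp S) (νX : X' ⟶ X) (f' : Y ⟶ X') (N : Over S) (a' : (yon S).obj N ⟶ X') (ν : N ⟶ V)
      (g : F ⟶ (yon S).obj N),
      RepWith @Etale φ ∧ RepWith @Surjective φ ∧ IsAlgSpace F ∧ IsPullback bY p f φ ∧ IsAlgSpace X' ∧
      IsPullback a' ((yon S).map ν) νX φ ∧ g ≫ (yon S).map ν = p ∧ g ≫ a' = bY ≫ f' ∧
      IsStableNorm p ν g ∧ IsRelNormalization f νX f' := by
  obtain ⟨V, φ, κ, Vi, si, hφ, hφs, hop, haff, hcov, hdisj⟩ := exists_affine_disjoint_atlas hX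
  haveI := hop
  have sqY := IsPullback.of_hasPullback f φ
  have hF : IsAlgSpace (pullback f φ) := isAlgSpace_pullback hY (IsAlgSpace.yon_obj V) hX f φ
  obtain ⟨N, ν, g, hg, hν, hst⟩ := exists_isStableNorm si haff hcov hdisj hF (pullback.snd f φ)
    (isQuasiCompactMor_of_isPullback sqY hqc) (isQuasiSeparatedMor_of_isPullback sqY hqs)
  haveI := hν
  obtain ⟨X', νX, f', a', hX', sqX, hga, hn⟩ := exists_descend hX hY hφ hφs sqY hg hst
  exact ⟨V, φ, _, _, _, X', νX, f', N, a', ν, g, hφ, hφs, hF, sqY, hX', sqX, hg, hga, hst, hn⟩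

end NormSpLib
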