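import Groth.Agent.NormSpLib.Chart
import Groth.Agent.AlgSpLib.FormalLocal

/-! Locality of the normalisation property. -/

set_option autoImplicit false
set_option backward.isDefEq.respectTransparency false
set_option backward.isDefEq.respectTransparency.types false

universe u

open CategoryTheory CategoryTheory.Limits AlgebraicGeometry Opposite AlgSp AlgSpLib TensorProduct

noncomputable section

namespace NormSpLib

variable {S : Scheme.{u}}

/-- An open subscheme over the base. -/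
abbrev openObj (T : Over S) (O : T.left.Opens) : Over S := Over.mk (O.ι ≫ T.hom)

/-- Its inclusion. -/
abbrev openHom (T : Over S) (O : T.left.Opens) : openObj T O ⟶ T := Over.homMk O.ι rfl

theorem range_openHom (T : Over S) (O : T.left.Opens) : Set.range (openHom T O).left = (O : Set T.left) :=
  O.range_ι

instance (T : Over S) (O : T.left.Opens) : Mono (openHom T O) :=
  (Over.forget S).mono_of_mono_map (inferInstanceAs (Mono O.ι))

theorem exists_lift_open {T T' : Over S} (φ : T' ⟶ T) (O : T.left.Opens) (h : Set.range φ.left ⊆ (O : Set T.left)) :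
    ∃ l : T' ⟶ openObj T O, l ≫ openHom T O = φ :=
  ⟨Over.homMk (IsOpenImmersion.lift O.ι φ.left (h.trans O.range_ι.symm.subset)) (by
    show IsOpenImmersion.lift O.ι φ.left _ ≫ O.ι ≫ T.hom = _
    rw [IsOpenImmersion.lift_fac_assoc, Over.w φ]), Over.OverMorphism.ext (IsOpenImmersion.lift_fac _ _ _)⟩

/-- Morphisms from a representable sheaf agree if they agree on an open covering. -/
theorem hom_ext_of_opens {G : Sp S} {T : Over S} {a b : (yon S).obj T ⟶ G}
    (h : ∀ t : T.left, ∃ O : T.left.Opens, t ∈ O ∧ (yon S).map (openHom T O) ≫ a = (yon S).map (openHom T O) ≫ b) :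
    a = b := by
  choose O hO h using h
  exact AlgSpLib.hom_ext_of_cover (fun t => openHom T (O t)) (fun t => inferInstanceAs (Flat (O t).ι))
    (fun t => inferInstanceAs (LocallyOfFinitePresentation (O t).ι))
    (fun t => ⟨t, (range_openHom T (O t)).symm.subset (hO t)⟩) h

theorem hom_ext_sheaf {F G : Sp S} {a b : F ⟶ G}
    (h : ∀ (T : Over S) (x : (yon S).obj T ⟶ F), x ≫ a = x ≫ b) : a = b :=
  GrothendieckTopology.hom_ext_uliftYoneda.{u + 1} (AlgSp.J S) h

theorem smooth_of_comp_openImmersion {A B C : Scheme.{u}} (h : A ⟶ B) (j : B ⟶ C) [IsOpenImmersion j]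
    [Smooth (h ≫ j)] : Smooth h :=
  MorphismProperty.of_isPullback (P := @Smooth)
    (show IsPullback (𝟙 A) h (h ≫ j) j from IsPullback.of_horiz_isIso_mono ⟨by rw [Category.id_comp]⟩) inferInstance

/-- The normalisation property is local on the base. -/
theorem isNormOver_of_local {T N : Over S} {F : Sp S} {p : F ⟶ (yon S).obj T} {ν : N ⟶ T}
    {g : F ⟶ (yon S).obj N} (hg : g ≫ (yon S).map ν = p) [hν : IsIntegralHom ν.left]
    (h : ∀ x : T.left, ∃ O : T.left.Opens, x ∈ O ∧ ∀ A : T.left.Opens, IsAffineOpen A → A ≤ O →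
      ∀ ⦃F' : Sp S⦄ (b : F' ⟶ F) (p' : F' ⟶ (yon S).obj (openObj T A)),
        IsPullback b p' p ((yon S).map (openHom T A)) → ∀ ⦃N' : Over S⦄ (c : N' ⟶ N) (ν' : N' ⟶ openObj T A),
          IsPullback c ν' ν (openHom T A) → ∀ g' : F' ⟶ (yon S).obj N', g' ≫ (yon S).map c = b ≫ g →
            g' ≫ (yon S).map ν' = p' → IsNormOver p' ν' g') :
    IsNormOver p ν g := by
  choose O hxO hO using h
  refine ⟨hg, hν, fun Z π hπ h₀ h₀p => ?_⟩
  haveI := hπ
  let κ := {A : T.left.Opens // IsAffineOpen A ∧ ∃ x, A ≤ O x}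
  have hbasis : ∀ (t : T.left) (O' : T.left.Opens), t ∈ O' → ∃ A : κ, t ∈ A.1 ∧ A.1 ≤ O' := fun t O' ht => by
    obtain ⟨A, hA, htA, hAO⟩ := exists_isAffineOpen_mem_and_subset (U := O' ⊓ O t) (x := t) ⟨ht, hxO t⟩
    exact ⟨⟨A, hA, t, fun z hz => (hAO hz).2⟩, htA, fun z hz => (hAO hz).1⟩
  choose N₁ c ν₁ sqN using fun A : κ => exists_pb ν (openHom T A.1)
  have sqF := fun A : κ => IsPullback.of_hasPullback p ((yon S).map (openHom T A.1))
  let b := fun A : κ => pullback.fst p ((yon S).map (openHom T A.1))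
  let p' := fun A : κ => pullback.snd p ((yon S).map (openHom T A.1))
  let g' := fun A : κ => (isPullback_yon (sqN A)).lift (b A ≫ g) (p' A) (by
    rw [Category.assoc, hg]; exact (sqF A).w)
  have hgc : ∀ A, g' A ≫ (yon S).map (c A) = b A ≫ g := fun A => IsPullback.lift_fst _ _ _ _
  have hgν : ∀ A, g' A ≫ (yon S).map (ν₁ A) = p' A := fun A => IsPullback.lift_snd _ _ _ _
  have hn : ∀ A, IsNormOver (p' A) (ν₁ A) (g' A) := fun A =>
    hO _ A.1 A.2.1 A.2.2.choose_spec (b A) (p' A) (sqF A) (c A) (ν₁ A) (sqN A) (g' A) (hgc A) (hgν A)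
  choose hA hhA huA using fun A => (hn A).exists_lift π (openHom T A.1) (b A ≫ h₀) (by
    rw [Category.assoc, h₀p]; exact (sqF A).w)
  haveI : ∀ A, IsOpenImmersion (c A).left := fun A =>
    MorphismProperty.of_isPullback (P := @IsOpenImmersion) (isPullback_left (sqN A)).flip
      (inferInstanceAs (IsOpenImmersion (A : κ).1.ι))
  have hcov : ∀ n : N.left, ∃ A : κ, n ∈ Set.range (c A).left := fun n => by
    obtain ⟨A, hA', -⟩ := hbasis (ν.left n) ⊤ trivial
    obtain ⟨z, hz, -⟩ := Scheme.exists_preimage_of_isPullback (isPullback_left (sqN A)) n ⟨ν.left n, hA'⟩ rfl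
    exact ⟨A, z, hz⟩
  have hcompat : ∀ (A B : κ) (Z' : Over S) (gi : Z' ⟶ N₁ A) (gj : Z' ⟶ N₁ B), gi ≫ c A = gj ≫ c B →
      gi ≫ hA A = gj ≫ hA B := by
    intro A B Z' gi gj e
    have eA : (gi ≫ ν₁ A) ≫ openHom T A.1 = gi ≫ c A ≫ ν := by rw [Category.assoc, ← (sqN A).w]
    have eB : (gj ≫ ν₁ B) ≫ openHom T B.1 = gi ≫ c A ≫ ν := by
      rw [Category.assoc, ← (sqN B).w, reassoc_of% e]
    refine (yon S).map_injective (hom_ext_of_opens fun z => ?_)
    let τ := (gi ≫ c A ≫ ν).left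
    have hzA : τ z ∈ A.1 ⊓ B.1 := by
      constructor
      · show τ z ∈ A.1
        show (gi ≫ c A ≫ ν).left z ∈ A.1
        rw [← eA]
        exact ((gi ≫ ν₁ A).left z).2
      · show τ z ∈ B.1
        show (gi ≫ c A ≫ ν).left z ∈ B.1
        rw [← eB]
        exact ((gj ≫ ν₁ B).left z).2
    obtain ⟨C, hzC, hCle⟩ := hbasis (τ z) (A.1 ⊓ B.1) hzA
    refine ⟨τ ⁻¹ᵁ C.1, hzC, ?_⟩
    let o := openHom Z' (τ ⁻¹ᵁ C.1)
    obtain ⟨rC, hrC⟩ := exists_lift_open (o ≫ gi ≫ c A ≫ ν) C.1 (by rintro _ ⟨v, rfl⟩; exact v.2)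
    obtain ⟨rA, hrA⟩ := exists_lift_open (openHom T C.1) A.1 (by
      rw [range_openHom]; exact fun v hv => (hCle hv).1)
    obtain ⟨rB, hrB⟩ := exists_lift_open (openHom T C.1) B.1 (by
      rw [range_openHom]; exact fun v hv => (hCle hv).2)
    have wA : c C ≫ ν = (ν₁ C ≫ rA) ≫ openHom T A.1 := by rw [Category.assoc, hrA, (sqN C).w]
    have wB : c C ≫ ν = (ν₁ C ≫ rB) ≫ openHom T B.1 := by rw [Category.assoc, hrB, (sqN C).w]
    have key : (sqN A).lift (c C) (ν₁ C ≫ rA) wA ≫ hA A = (sqN B).lift (c C) (ν₁ C ≫ rB) wB ≫ hA B := by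
      refine (hn C).lift_unique π (q := openHom T C.1) ?_ ?_ ?_
      · rw [Category.assoc, (hhA A).2, IsPullback.lift_snd_assoc, Category.assoc, hrA]
      · rw [Category.assoc, (hhA B).2, IsPullback.lift_snd_assoc, Category.assoc, hrB]
      · have hkA : ∀ (D : κ) (r : openObj T C.1 ⟶ openObj T D.1) (hr : r ≫ openHom T D.1 = openHom T C.1)
            (wD : c C ≫ ν = (ν₁ C ≫ r) ≫ openHom T D.1),
            g' C ≫ (yon S).map ((sqN D).lift (c C) (ν₁ C ≫ r) wD ≫ hA D) = b C ≫ h₀ := by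
          intro D r hr wD
          have wr : b C ≫ p = (p' C ≫ (yon S).map r) ≫ (yon S).map (openHom T D.1) := by
            rw [Category.assoc, ← Functor.map_comp, hr]; exact (sqF C).w
          have hl : g' C ≫ (yon S).map ((sqN D).lift (c C) (ν₁ C ≫ r) wD) =
              (sqF D).lift (b C) (p' C ≫ (yon S).map r) wr ≫ g' D := by
            apply (isPullback_yon (sqN D)).hom_ext
            · rw [Category.assoc, ← Functor.map_comp, IsPullback.lift_fst, Category.assoc, hgc, hgc,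
                IsPullback.lift_fst_assoc]
            · rw [Category.assoc, ← Functor.map_comp, IsPullback.lift_snd, Functor.map_comp, Category.assoc, hgν,
                ← Category.assoc, hgν, IsPullback.lift_snd]
          rw [Functor.map_comp, ← Category.assoc, hl, Category.assoc, (hhA D).1, IsPullback.lift_fst_assoc]
        rw [hkA A rA hrA wA, hkA B rB hrB wB]
    obtain ⟨lC, hlC₁, hlC₂⟩ : ∃ l, l ≫ c C = o ≫ gi ≫ c A ∧ l ≫ ν₁ C = rC :=
      ⟨(sqN C).lift (o ≫ gi ≫ c A) rC (by rw [hrC]; simp only [Category.assoc]), IsPullback.lift_fst _ _ _ _,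
        IsPullback.lift_snd _ _ _ _⟩
    have hiA : o ≫ gi = lC ≫ (sqN A).lift (c C) (ν₁ C ≫ rA) wA := by
      apply (sqN A).hom_ext
      · rw [Category.assoc, Category.assoc, IsPullback.lift_fst, hlC₁]
      · rw [← cancel_mono (openHom T A.1)]
        simp only [Category.assoc, IsPullback.lift_snd_assoc, hrA]
        rw [reassoc_of% hlC₂, hrC, ← (sqN A).w]
    have hiB : o ≫ gj = lC ≫ (sqN B).lift (c C) (ν₁ C ≫ rB) wB := by
      apply (sqN B).hom_ext
      · rw [Category.assoc, Category.assoc, IsPullback.lift_fst, hlC₁, e]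
      · rw [← cancel_mono (openHom T B.1)]
        simp only [Category.assoc, IsPullback.lift_snd_assoc, hrB]
        rw [reassoc_of% hlC₂, hrC, reassoc_of% e, ← (sqN B).w]
    rw [← Functor.map_comp, ← Functor.map_comp]
    show (yon S).map (o ≫ gi ≫ hA A) = (yon S).map (o ≫ gj ≫ hA B)
    rw [reassoc_of% hiA, reassoc_of% hiB, key]
  obtain ⟨H, hH⟩ := AlgSpLib.exists_amalgamation c (fun A => inferInstance) (fun A => inferInstance) hcov
    (fun A => (yon S).map (hA A)) fun A B Z' gi gj e => by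
      rw [← Functor.map_comp, ← Functor.map_comp, hcompat A B Z' gi gj e]
  obtain ⟨H, rfl⟩ := (yon S).map_surjective H
  have hH' : ∀ A, c A ≫ H = hA A := fun A => (yon S).map_injective (by rw [Functor.map_comp, hH])
  have hloc : ∀ {G : Sp S} {a₁ a₂ : F ⟶ G}, (∀ A : κ, b A ≫ a₁ = b A ≫ a₂) → a₁ = a₂ := by
    intro G a₁ a₂ heq
    refine hom_ext_sheaf fun T' x => hom_ext_of_opens fun z => ?_
    obtain ⟨ρ, hρ⟩ := (yon S).map_surjective (x ≫ p)
    obtain ⟨A, hzA, -⟩ := hbasis (ρ.left z) ⊤ trivial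
    refine ⟨ρ.left ⁻¹ᵁ A.1, hzA, ?_⟩
    obtain ⟨r, hr⟩ := exists_lift_open (openHom T' (ρ.left ⁻¹ᵁ A.1) ≫ ρ) A.1 (by rintro _ ⟨v, rfl⟩; exact v.2)
    have w : ((yon S).map (openHom T' (ρ.left ⁻¹ᵁ A.1)) ≫ x) ≫ p = (yon S).map r ≫ (yon S).map (openHom T A.1) := by
      rw [Category.assoc, ← hρ, ← Functor.map_comp, ← Functor.map_comp, hr]
    have e := congrArg ((sqF A).lift _ _ w ≫ ·) (heq A)
    simp only [b, IsPullback.lift_fst_assoc, Category.assoc] at e
    exact e
  refine ⟨H, ⟨hloc fun A => by rw [← Category.assoc, ← hgc, Category.assoc, hH, (hhA A).1], ?_⟩, fun H' hH'' => ?_⟩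
  · refine (yon S).map_injective (AlgSpLib.hom_ext_of_cover c (fun A => inferInstance) (fun A => inferInstance) hcov
      fun A => ?_)
    rw [← Functor.map_comp, ← Functor.map_comp, reassoc_of% (hH' A), (hhA A).2, (sqN A).w]
  · refine (yon S).map_injective (AlgSpLib.hom_ext_of_cover c (fun A => inferInstance) (fun A => inferInstance) hcov
      fun A => ?_)
    rw [hH, ← Functor.map_comp]
    refine congrArg _ (huA A (c A ≫ H') ⟨?_, ?_⟩)
    · rw [Functor.map_comp, ← Category.assoc, hgc, Category.assoc, hH''.1]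
    · rw [Category.assoc, hH''.2, (sqN A).w]

end NormSpLib
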