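import Groth.Agent.NormSpLib.Descend
import Groth.Agent.AlgSpLib.Reduced
import Groth.Agent.AlgSpRegLib.CutByApps

/-! Consequences for the normalisation of algebraic spaces. -/

set_option autoImplicit false
set_option backward.isDefEq.respectTransparency false
set_option backward.isDefEq.respectTransparency.types false

universe u

open CategoryTheory CategoryTheory.Limits AlgebraicGeometry Opposite AlgSp AlgSpLib

noncomputable section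

namespace NormSpLib

variable {S : Scheme.{u}}

/-- Normalisations commute with smooth base change. -/
theorem isRelNormalization_smooth_pullback {X₁ X₂ Y₁ Y₂ X₁' P : Sp S} (hX₁ : IsAlgSpace X₁) (hX₂ : IsAlgSpace X₂)
    (hY₁ : IsAlgSpace Y₁) (hX₁' : IsAlgSpace X₁') {f₁ : Y₁ ⟶ X₁} {φ : X₂ ⟶ X₁} {f₂ : Y₂ ⟶ X₂} {ψ : Y₂ ⟶ Y₁}
    (hsq : IsPullback ψ f₂ f₁ φ) (hqc : IsQuasiCompactMor f₁) (hqs : IsQuasiSeparatedMor f₁)
    (hφ : LocP @Smooth φ) {ν₁ : X₁' ⟶ X₁} {f₁' : Y₁ ⟶ X₁'} (hn : IsRelNormalization f₁ ν₁ f₁')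
    {ν₂ : P ⟶ X₂} {ρ : P ⟶ X₁'} (hP : IsPullback ρ ν₂ ν₁ φ) {f₂' : Y₂ ⟶ P}
    (w₁ : f₂' ≫ ν₂ = f₂) (w₂ : f₂' ≫ ρ = ψ ≫ f₁') : IsRelNormalization f₂ ν₂ f₂' := by
  obtain ⟨V, φ₀, F, bY, p, X₀, ν₀, f₀, N, a₀, ν, g, hφ₀, hφ₀s, hF, sqY, hX₀, sqX₀, hg, hga, hst, hn₀⟩ :=
    exists_norm_chart hX₁ hY₁ f₁ hqc hqs
  obtain ⟨θ, ⟨hθ₁, hθ₂⟩, -⟩ := hn₀.2.2 hX₁' ν₁ f₁' hn.2.1 hn.1
  obtain ⟨θ', ⟨hθ'₁, hθ'₂⟩, -⟩ := hn.2.2 hX₀ ν₀ f₀ hn₀.2.1 hn₀.1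
  have e₁ : θ ≫ θ' = 𝟙 X₀ := (hn₀.2.2 hX₀ ν₀ f₀ hn₀.2.1 hn₀.1).unique
    ⟨by rw [reassoc_of% hθ₁, hθ'₁], by rw [Category.assoc, hθ'₂, hθ₂]⟩ ⟨Category.comp_id _, Category.id_comp _⟩
  have e₂ : θ' ≫ θ = 𝟙 X₁' := (hn.2.2 hX₁' ν₁ f₁' hn.2.1 hn.1).unique
    ⟨by rw [reassoc_of% hθ'₁, hθ₁], by rw [Category.assoc, hθ₂, hθ'₂]⟩ ⟨Category.comp_id _, Category.id_comp _⟩
  let Θ : X₀ ≅ X₁' := ⟨θ, θ', e₁, e₂⟩
  let a := a₀ ≫ θ
  have sqX : IsPullback a ((yon S).map ν) ν₁ φ₀ := sqX₀.of_iso (Iso.refl _) Θ (Iso.refl _) (Iso.refl _)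
    (by simp [a, Θ]) (by simp) (by simp [Θ, hθ₂]) (by simp)
  have hga' : g ≫ a = bY ≫ f₁' := by simp only [a]; rw [reassoc_of% hga, hθ₁]
  obtain ⟨V₂, φ₂, h, hφ₂, hφ₂s, eh⟩ := exists_chart_over hX₂ hX₁ φ φ₀ hφ₀ hφ₀s
  haveI : Smooth h.left := hφ φ₂ φ₀ h hφ₂ hφ₀ eh
  have sqY₂ := IsPullback.of_hasPullback f₂ φ₂
  let b₂ := pullback.fst f₂ φ₂
  let p₂ := pullback.snd f₂ φ₂
  have big : IsPullback (b₂ ≫ ψ) p₂ f₁ ((yon S).map h ≫ φ₀) := by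
    rw [← eh]; exact sqY₂.paste_horiz hsq
  let bF := sqY.lift (b₂ ≫ ψ) (p₂ ≫ (yon S).map h) (by rw [Category.assoc]; exact big.w.trans (Category.assoc _ _ _).symm)
  have hbF₁ : bF ≫ bY = b₂ ≫ ψ := sqY.lift_fst _ _ _
  have hbF₂ : bF ≫ p = p₂ ≫ (yon S).map h := sqY.lift_snd _ _ _
  have sqF₂ : IsPullback bF p₂ p ((yon S).map h) := IsPullback.of_right (by rw [hbF₁]; exact big) hbF₂ sqY
  obtain ⟨N₂, c, μ, sqN₂⟩ := exists_pb ν h
  let a₂ := hP.lift ((yon S).map c ≫ a) ((yon S).map μ ≫ φ₂) (by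
    rw [Category.assoc, sqX.w, Category.assoc, eh, ← Functor.map_comp_assoc, sqN₂.w, Functor.map_comp_assoc])
  have ha₂₁ : a₂ ≫ ρ = (yon S).map c ≫ a := hP.lift_fst _ _ _
  have ha₂₂ : a₂ ≫ ν₂ = (yon S).map μ ≫ φ₂ := hP.lift_snd _ _ _
  have sqX₂ : IsPullback a₂ ((yon S).map μ) ν₂ φ₂ :=
    IsPullback.of_right (by rw [ha₂₁, eh]; exact (isPullback_yon sqN₂).paste_horiz sqX) ha₂₂ hP
  let g₂ := (isPullback_yon sqN₂).lift (bF ≫ g) p₂ (by rw [Category.assoc, hg]; exact hbF₂)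
  have hg₂₁ : g₂ ≫ (yon S).map c = bF ≫ g := IsPullback.lift_fst _ _ _ _
  have hg₂₂ : g₂ ≫ (yon S).map μ = p₂ := IsPullback.lift_snd _ _ _ _
  have hga₂ : g₂ ≫ a₂ = b₂ ≫ f₂' := hP.hom_ext
    (by rw [Category.assoc, ha₂₁, reassoc_of% hg₂₁, hga', reassoc_of% hbF₁, Category.assoc, w₂])
    (by rw [Category.assoc, ha₂₂, reassoc_of% hg₂₂, Category.assoc, w₁]; exact sqY₂.w.symm)
  exact isRelNormalization_of_chart w₁ (isIntegralMor_iff.2 (repWith_of_isPullback hP (isIntegralMor_iff.1 hn.2.1)))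
    hφ₂ hφ₂s sqY₂ sqX₂ hg₂₂ hga₂ (hst.bc sqF₂ sqN₂ hg₂₁ hg₂₂)

/-- A map from a reduced space factors through a surjective closed subspace. -/
theorem exists_factor_of_isReducedSp {Y X Z : Sp S} (hY : IsAlgSpace Y) (hr : IsReducedSp Y) {i : Z ⟶ X}
    (hi : RepWith @IsClosedImmersion i) (his : Set.range (Points.map i) = Set.univ) (f : Y ⟶ X) :
    ∃ l : Y ⟶ Z, l ≫ i = f := by
  haveI : Mono i := mono_of_repWith (fun g (_ : IsClosedImmersion g) => inferInstance) hi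
  have hs : RepWith @Surjective i := (repWith_surjective_iff hi.rep).2 (Set.range_eq_univ.1 his)
  obtain ⟨W, a, ha, has⟩ := hY.atlas
  haveI : IsReduced W.left := isReduced_of_chart hr ha
  obtain ⟨P, j, k, sq⟩ : ∃ (P : Over S) (j : P ⟶ W) (k : (yon S).obj P ⟶ Z),
      IsPullback k ((yon S).map j) i (a ≫ f) := ⟨_, _, _, hi.rep.isPullback (a ≫ f)⟩
  haveI : IsClosedImmersion j.left := (repWith_yon_map_iff (P := (@IsClosedImmersion : MorphismProperty Scheme.{u})) j).1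
    (repWith_of_isPullback sq hi)
  haveI : Surjective j.left := surjective_left (repWith_of_isPullback sq hs)
  haveI : IsIso j.left := isIso_of_isClosedImmersion_of_surjective j.left
  haveI : IsIso ((Over.forget S).map j) := inferInstanceAs (IsIso j.left)
  haveI : IsIso j := isIso_of_reflects_iso j (Over.forget S)
  have hl : ((yon S).map (inv j) ≫ k) ≫ i = a ≫ f := by
    rw [Category.assoc, sq.w, ← Functor.map_comp_assoc, IsIso.inv_hom_id, CategoryTheory.Functor.map_id,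
      Category.id_comp]
  obtain ⟨l, hl'⟩ := exists_desc_of_atlas ha has ((yon S).map (inv j) ≫ k) fun T u v e => by
    rw [← cancel_mono i, Category.assoc, hl, Category.assoc ((yon S).map v), hl, reassoc_of% e]
  exact ⟨l, hom_ext_of_atlas ha has (by rw [reassoc_of% hl', ← Category.assoc, hl])⟩

end NormSpLib
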