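import Groth.Agent.NormSpLib.Ring
import Groth.Agent.AlgSpLib.Descend
import Groth.Agent.AlgSpLib.QAffDescent
import Groth.Agent.AlgSpLib.MorPack
import Groth.Prelude.Def_AlgSpMor5
import Mathlib

/-! Relative normalisation over a scheme. -/

set_option autoImplicit false
set_option backward.isDefEq.respectTransparency false
set_option backward.isDefEq.respectTransparency.types false

universe u

open CategoryTheory CategoryTheory.Limits AlgebraicGeometry Opposite AlgSp AlgSpLib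

noncomputable section

namespace NormSpLib

variable {S : Scheme.{u}}

theorem exists_pb {A B C : Over S} (a : A ⟶ C) (b : B ⟶ C) :
    ∃ (P : Over S) (p₁ : P ⟶ A) (p₂ : P ⟶ B), IsPullback p₁ p₂ a b :=
  ⟨_, _, _, IsPullback.of_hasPullback a b⟩

theorem isPullback_left {P A B C : Over S} {p₁ : P ⟶ A} {p₂ : P ⟶ B} {a : A ⟶ C} {b : B ⟶ C}
    (sq : IsPullback p₁ p₂ a b) : IsPullback p₁.left p₂.left a.left b.left := sq.map (Over.forget S)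

theorem isPullback_yon {P A B C : Over S} {p₁ : P ⟶ A} {p₂ : P ⟶ B} {a : A ⟶ C} {b : B ⟶ C}
    (sq : IsPullback p₁ p₂ a b) :
    IsPullback ((yon S).map p₁) ((yon S).map p₂) ((yon S).map a) ((yon S).map b) := sq.map (yon S)

theorem isIntegralHom_snd {P A B C : Over S} {p₁ : P ⟶ A} {p₂ : P ⟶ B} {a : A ⟶ C} {b : B ⟶ C}
    (sq : IsPullback p₁ p₂ a b) [IsIntegralHom a.left] : IsIntegralHom p₂.left :=
  MorphismProperty.of_isPullback (P := @IsIntegralHom) (isPullback_left sq) inferInstance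

/-- `g` exhibits `N` as the normalisation of the scheme `T` in the sheaf `F`, tested on schemes. -/
def IsNormOver {T N : Over S} {F : Sp S} (p : F ⟶ (yon S).obj T) (ν : N ⟶ T) (g : F ⟶ (yon S).obj N) : Prop :=
  g ≫ (yon S).map ν = p ∧ IsIntegralHom ν.left ∧
    ∀ ⦃Z : Over S⦄ (π : Z ⟶ T), IsIntegralHom π.left → ∀ h₀ : F ⟶ (yon S).obj Z, h₀ ≫ (yon S).map π = p →
      ∃! h : N ⟶ Z, g ≫ (yon S).map h = h₀ ∧ h ≫ π = ν

/-- The normalisation property holds after every smooth base change. -/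
def IsStableNorm {V N : Over S} {F : Sp S} (p : F ⟶ (yon S).obj V) (ν : N ⟶ V) (g : F ⟶ (yon S).obj N) : Prop :=
  ∀ ⦃T : Over S⦄ (q : T ⟶ V), Smooth q.left → ∀ ⦃F' : Sp S⦄ (b : F' ⟶ F) (p' : F' ⟶ (yon S).obj T),
    IsPullback b p' p ((yon S).map q) → ∀ ⦃N' : Over S⦄ (c : N' ⟶ N) (ν' : N' ⟶ T), IsPullback c ν' ν q →
      ∀ g' : F' ⟶ (yon S).obj N', g' ≫ (yon S).map c = b ≫ g → g' ≫ (yon S).map ν' = p' → IsNormOver p' ν' g'

theorem IsNormOver.comp_ν {T N : Over S} {F : Sp S} {p : F ⟶ (yon S).obj T} {ν : N ⟶ T}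
    {g : F ⟶ (yon S).obj N} (h : IsNormOver p ν g) : g ≫ (yon S).map ν = p := h.1

/-- Maps out of a normalisation into something integral over another base. -/
theorem IsNormOver.exists_lift {T N V N₀ : Over S} {F : Sp S} {p : F ⟶ (yon S).obj T} {ν : N ⟶ T}
    {g : F ⟶ (yon S).obj N} (hn : IsNormOver p ν g) (ν₀ : N₀ ⟶ V) [IsIntegralHom ν₀.left] (q : T ⟶ V)
    (g₀ : F ⟶ (yon S).obj N₀) (hg₀ : g₀ ≫ (yon S).map ν₀ = p ≫ (yon S).map q) :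
    ∃! h : N ⟶ N₀, g ≫ (yon S).map h = g₀ ∧ h ≫ ν₀ = ν ≫ q := by
  obtain ⟨Z, z₁, z₂, sqZ⟩ := exists_pb ν₀ q
  have sqY := isPullback_yon sqZ
  obtain ⟨h, ⟨hh₁, hh₂⟩, hu⟩ := hn.2.2 z₂ (isIntegralHom_snd sqZ) (sqY.lift g₀ p hg₀) (sqY.lift_snd _ _ _)
  refine ⟨h ≫ z₁, ⟨?_, ?_⟩, fun h' hh' => ?_⟩
  · rw [Functor.map_comp, reassoc_of% hh₁, sqY.lift_fst]
  · rw [Category.assoc, sqZ.w, reassoc_of% hh₂]
  · have := hu (sqZ.lift h' ν hh'.2) ⟨sqY.hom_ext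
      (by rw [sqY.lift_fst, Category.assoc, ← Functor.map_comp, sqZ.lift_fst, hh'.1])
      (by rw [sqY.lift_snd, Category.assoc, ← Functor.map_comp, sqZ.lift_snd, hn.1]), sqZ.lift_snd _ _ _⟩
    rw [← sqZ.lift_fst h' ν hh'.2, this]

theorem IsNormOver.lift_unique {T N V N₀ : Over S} {F : Sp S} {p : F ⟶ (yon S).obj T} {ν : N ⟶ T}
    {g : F ⟶ (yon S).obj N} (hn : IsNormOver p ν g) (ν₀ : N₀ ⟶ V) [IsIntegralHom ν₀.left] {q : T ⟶ V}
    {h h' : N ⟶ N₀} (e : h ≫ ν₀ = ν ≫ q) (e' : h' ≫ ν₀ = ν ≫ q)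
    (eg : g ≫ (yon S).map h = g ≫ (yon S).map h') : h = h' :=
  (hn.exists_lift ν₀ q (g ≫ (yon S).map h) (by
    rw [Category.assoc, ← Functor.map_comp, e, Functor.map_comp, ← Category.assoc, hn.1])).unique
    ⟨rfl, e⟩ ⟨eg.symm, e'⟩

/-- Transport along an isomorphism of the sheaf. -/
theorem IsNormOver.of_iso {T N : Over S} {F F' : Sp S} (e : F' ≅ F) {p : F ⟶ (yon S).obj T} {ν : N ⟶ T}
    {g : F ⟶ (yon S).obj N} (hn : IsNormOver p ν g) : IsNormOver (e.hom ≫ p) ν (e.hom ≫ g) := by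
  refine ⟨by rw [Category.assoc, hn.1], hn.2.1, fun Z π hπ h₀ h₀p => ?_⟩
  obtain ⟨h, ⟨hh₁, hh₂⟩, hu⟩ := hn.2.2 π hπ (e.inv ≫ h₀) (by rw [Category.assoc, h₀p, Iso.inv_hom_id_assoc])
  exact ⟨h, ⟨by rw [Category.assoc, hh₁, Iso.hom_inv_id_assoc], hh₂⟩,
    fun h' hh' => hu h' ⟨by rw [← hh'.1, Category.assoc, Iso.inv_hom_id_assoc], hh'.2⟩⟩

/-- Stable normalisations restrict. -/
theorem IsStableNorm.bc {V N T N' : Over S} {F F' : Sp S} {p : F ⟶ (yon S).obj V} {ν : N ⟶ V}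
    {g : F ⟶ (yon S).obj N} (hst : IsStableNorm p ν g) {q : T ⟶ V} [Smooth q.left] {b : F' ⟶ F}
    {p' : F' ⟶ (yon S).obj T} (sqF : IsPullback b p' p ((yon S).map q)) {c : N' ⟶ N} {ν' : N' ⟶ T}
    (sqN : IsPullback c ν' ν q) {g' : F' ⟶ (yon S).obj N'} (hc : g' ≫ (yon S).map c = b ≫ g)
    (hν : g' ≫ (yon S).map ν' = p') : IsStableNorm p' ν' g' := by
  intro T₂ q₂ hq₂ F₂ b₂ p₂ sqF₂ N₂ c₂ ν₂ sqN₂ g₂ hc₂ hν₂
  haveI := hq₂
  exact hst (q₂ ≫ q) (inferInstanceAs (Smooth (q₂.left ≫ q.left))) (b₂ ≫ b) p₂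
    (by rw [Functor.map_comp]; exact sqF₂.paste_horiz sqF) (c₂ ≫ c) ν₂ (sqN₂.paste_horiz sqN) g₂
    (by rw [Functor.map_comp, reassoc_of% hc₂, hc, Category.assoc]) hν₂

theorem IsStableNorm.isNormOver {V N : Over S} {F : Sp S} {p : F ⟶ (yon S).obj V} {ν : N ⟶ V}
    {g : F ⟶ (yon S).obj N} (hst : IsStableNorm p ν g) (hν : g ≫ (yon S).map ν = p) : IsNormOver p ν g :=
  hst (𝟙 V) (inferInstanceAs (Smooth (𝟙 V.left))) (𝟙 F) p
    (by rw [CategoryTheory.Functor.map_id]; exact IsPullback.of_horiz_isIso ⟨by simp⟩) (𝟙 N) ν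
    (IsPullback.of_horiz_isIso ⟨by simp⟩) g (by simp) hν

theorem exists_hom_appTop (X : Scheme.{u}) {Y : Scheme.{u}} [IsAffine Y] (ψ : Γ(Y, ⊤) ⟶ Γ(X, ⊤)) :
    ∃ h : X ⟶ Y, h.appTop = ψ := by
  refine ⟨X.toSpecΓ ≫ Spec.map ψ ≫ Y.isoSpec.inv, ?_⟩
  rw [Scheme.Hom.comp_appTop, Scheme.Hom.comp_appTop, Scheme.toSpecΓ_appTop]
  simp [Scheme.isoSpec, Scheme.ΓSpecIso_naturality]

end NormSpLib
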