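import Mathlib

/-! Integral closure in an equaliser commutes with smooth base change. -/

set_option autoImplicit false

universe u

open TensorProduct

namespace NormSpLib

variable {B B' P Q : Type u} [CommRing B] [CommRing B'] [CommRing P] [CommRing Q]
  [Algebra B B'] [Algebra B P] [Algebra B Q]

/-- The integral closure of the base in the equaliser of two maps. -/
def intEq (f g : P →ₐ[B] Q) : Subalgebra B P := integralClosure B P ⊓ AlgHom.equalizer f g

theorem mem_intEq {f g : P →ₐ[B] Q} {x : P} : x ∈ intEq f g ↔ IsIntegral B x ∧ f x = g x := Iff.rfl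

variable (B') in
theorem intEq_map_injective [Module.Flat B B'] (f g : P →ₐ[B] Q) :
    Function.Injective (Algebra.TensorProduct.map (AlgHom.id B' B') (intEq f g).val) :=
  Module.Flat.lTensor_preserves_injective_linearMap (M := B') (intEq f g).val.toLinearMap Subtype.val_injective

variable (B') in
theorem exists_intEq_preimage [Algebra.Smooth B B'] (f g : P →ₐ[B] Q) (x : B' ⊗[B] P) (hx : IsIntegral B' x)
    (hfg : Algebra.TensorProduct.map (AlgHom.id B' B') f x = Algebra.TensorProduct.map (AlgHom.id B' B') g x) :
    ∃ y : B' ⊗[B] intEq f g, Algebra.TensorProduct.map (AlgHom.id B' B') (intEq f g).val y = x := by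
  obtain ⟨z, hz⟩ := (TensorProduct.toIntegralClosure_bijective_of_smooth (R := B) (S := B') (B := P)).2 ⟨x, hx⟩
  have hz' : Algebra.TensorProduct.map (AlgHom.id B' B') (integralClosure B P).val z = x := congrArg Subtype.val hz
  let i : intEq f g →ₗ[B] integralClosure B P := (Subalgebra.inclusion inf_le_left).toLinearMap
  let d : integralClosure B P →ₗ[B] Q :=
    (f.toLinearMap - g.toLinearMap).comp (integralClosure B P).val.toLinearMap
  have hex : Function.Exact i d := fun w =>
    ⟨fun hw => ⟨⟨w.1, w.2, sub_eq_zero.1 hw⟩, Subtype.ext rfl⟩, by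
      rintro ⟨v, rfl⟩
      exact sub_eq_zero.2 v.2.2⟩
  have hex' := Module.Flat.lTensor_exact (M := B') hex
  have hd : ∀ w : B' ⊗[B] integralClosure B P, d.lTensor B' w =
      Algebra.TensorProduct.map (AlgHom.id B' B') f (Algebra.TensorProduct.map (AlgHom.id B' B') (integralClosure B P).val w) -
      Algebra.TensorProduct.map (AlgHom.id B' B') g (Algebra.TensorProduct.map (AlgHom.id B' B') (integralClosure B P).val w) := by
    intro w
    induction w with
    | zero => simp
    | add a b ha hb => simp only [map_add, ha, hb]; abel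
    | tmul a b => simp [d, TensorProduct.tmul_sub]
  obtain ⟨y, hy⟩ := (hex' z).1 (by rw [hd, hz', hfg, sub_self])
  refine ⟨y, ?_⟩
  rw [← hz', ← hy]
  clear hy hex'
  induction y with
  | zero => simp
  | add a b ha hb => simp only [map_add, ha, hb]
  | tmul a b => rfl

end NormSpLib
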