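import Groth.Agent.NormSpLib.Local
import Groth.Agent.AlgSpLib.Qc
import Groth.Agent.AlgSpLib.Coprod
import Groth.Agent.AlgSpLib.LocP
import Groth.Agent.SpectralQuot.DenseScheme

/-! Stable normalisations over schemes. -/

set_option autoImplicit false
set_option backward.isDefEq.respectTransparency false
set_option backward.isDefEq.respectTransparency.types false

universe u

open CategoryTheory CategoryTheory.Limits AlgebraicGeometry Opposite AlgSp AlgSpLib

noncomputable section

namespace NormSpLib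

variable {S : Scheme.{u}}

theorem isQuasiSeparatedMor_of_isPullback {F G F' G' : Sp S} {f : F ⟶ G} {g : G' ⟶ G} {fst : F' ⟶ F}
    {snd : F' ⟶ G'} (sq : IsPullback fst snd f g) (h : IsQuasiSeparatedMor f) : IsQuasiSeparatedMor snd :=
  MorphismProperty.of_isPullback (P := (RepWith (S := S) @QuasiCompact).diagonal) sq h

/-- The relation of an affine atlas over an affine base is quasi-compact. -/
theorem compactSpace_rel_mor {V W R : Over S} [IsAffine V.left] [IsAffine W.left] {F : Sp S}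
    {p : F ⟶ (yon S).obj V} (hqs : IsQuasiSeparatedMor p) {a : (yon S).obj W ⟶ F} {w : W ⟶ V}
    (hap : a ≫ p = (yon S).map w) {t s : R ⟶ W}
    (sq : IsPullback ((yon S).map t) ((yon S).map s) a a) : CompactSpace R.left := by
  obtain ⟨P, p₁, p₂, sqP⟩ := exists_pb w w
  haveI : QuasiCompact p₂.left :=
    MorphismProperty.of_isPullback (P := @QuasiCompact) (isPullback_left sqP) inferInstance
  haveI : CompactSpace P.left := QuasiCompact.compactSpace_of_compactSpace p₂.left
  have hts : t ≫ w = s ≫ w := (yon S).map_injective (by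
    rw [Functor.map_comp, Functor.map_comp, ← hap, reassoc_of% sq.w])
  let j : R ⟶ P := sqP.lift t s hts
  have hj₁ : j ≫ p₁ = t := sqP.lift_fst _ _ _
  have hj₂ : j ≫ p₂ = s := sqP.lift_snd _ _ _
  let g : (yon S).obj P ⟶ pullback p p := pullback.lift ((yon S).map p₁ ≫ a) ((yon S).map p₂ ≫ a) (by
    rw [Category.assoc, Category.assoc, hap, ← Functor.map_comp, ← Functor.map_comp, sqP.w])
  have sqD : IsPullback ((yon S).map t ≫ a) ((yon S).map j) (pullback.diagonal p) g := by
    refine ⟨⟨?_⟩, ⟨PullbackCone.IsLimit.mk _ (fun c => sq.lift (c.snd ≫ (yon S).map p₁) (c.snd ≫ (yon S).map p₂) ?_)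
      (fun c => ?_) (fun c => ?_) (fun c m h₁ h₂ => ?_)⟩⟩
    · apply pullback.hom_ext
      · simp only [g, Category.assoc, pullback.diagonal_fst, Category.comp_id, pullback.lift_fst]
        rw [← Functor.map_comp_assoc, hj₁]
      · simp only [g, Category.assoc, pullback.diagonal_snd, Category.comp_id, pullback.lift_snd]
        rw [← Functor.map_comp_assoc, hj₂, sq.w]
    · have e₁ := congrArg (· ≫ pullback.fst p p) c.condition
      have e₂ := congrArg (· ≫ pullback.snd p p) c.condition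
      simp only [g, Category.assoc, pullback.diagonal_fst, pullback.diagonal_snd, Category.comp_id,
        pullback.lift_fst, pullback.lift_snd] at e₁ e₂
      rw [Category.assoc, Category.assoc, ← e₁, ← e₂]
    · rw [IsPullback.lift_fst_assoc, Category.assoc]
      have e₁ := congrArg (· ≫ pullback.fst p p) c.condition
      simp only [g, Category.assoc, pullback.diagonal_fst, Category.comp_id, pullback.lift_fst] at e₁
      exact e₁.symm
    · apply (isPullback_yon sqP).hom_ext
      · rw [Category.assoc, ← (yon S).map_comp j p₁, hj₁, IsPullback.lift_fst]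
      · rw [Category.assoc, ← (yon S).map_comp j p₂, hj₂, IsPullback.lift_snd]
    · apply sq.hom_ext
      · rw [IsPullback.lift_fst, ← h₂, Category.assoc, ← Functor.map_comp, hj₁]
      · rw [IsPullback.lift_snd, ← h₂, Category.assoc, ← Functor.map_comp, hj₂]
  haveI : QuasiCompact j.left :=
    (repWith_yon_map_iff (P := (@QuasiCompact : MorphismProperty Scheme.{u})) j).1 (repWith_of_isPullback sqD hqs)
  exact QuasiCompact.compactSpace_of_compactSpace j.left

/-- Stable normalisation over an affine scheme. -/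
theorem exists_isStableNorm_affine {V : Over S} [IsAffine V.left] {F : Sp S} (hF : IsAlgSpace F)
    (p : F ⟶ (yon S).obj V) (hqc : IsQuasiCompactMor p) (hqs : IsQuasiSeparatedMor p) :
    ∃ (N : Over S) (ν : N ⟶ V) (g : F ⟶ (yon S).obj N),
      g ≫ (yon S).map ν = p ∧ IsIntegralHom ν.left ∧ IsStableNorm p ν g := by
  obtain ⟨W, a, hW, ha, has⟩ := exists_affine_chart
    (hqc (IsAlgSpace.yon_obj V) (isQuasiCompactSp_yon V) (𝟙 _) (𝟙 F) p IsPullback.of_id_fst)
  obtain ⟨w, hw⟩ := (yon S).map_surjective (a ≫ p)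
  obtain ⟨R, t, s, sq⟩ : ∃ (R : Over S) (t s : R ⟶ W), IsPullback ((yon S).map t) ((yon S).map s) a a :=
    exists_isPullback_yon a a ha.rep
  have hts : t ≫ w = s ≫ w := (yon S).map_injective (by
    rw [Functor.map_comp, Functor.map_comp, hw, reassoc_of% sq.w])
  haveI := hW
  haveI := compactSpace_rel_mor hqs hw.symm sq
  haveI := SpectralQuot.isSeparated_t sq
  haveI : QuasiSeparatedSpace R.left := quasiSeparatedSpace_of_quasiSeparated t.left
  obtain ⟨N, ν, gW, hc⟩ := exists_isNormChart w t s hts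
  obtain ⟨g, hg⟩ := exists_desc_of_atlas ha has ((yon S).map gW) fun Z u v e => by
    obtain ⟨r, hr⟩ := (yon S).map_surjective (sq.lift ((yon S).map u) ((yon S).map v) e)
    have hu : r ≫ t = u := (yon S).map_injective (by rw [Functor.map_comp, hr, sq.lift_fst])
    have hv : r ≫ s = v := (yon S).map_injective (by rw [Functor.map_comp, hr, sq.lift_snd])
    rw [← Functor.map_comp, ← Functor.map_comp, ← hu, ← hv, Category.assoc, Category.assoc, hc.rel]
  haveI := hc.integral
  refine ⟨N, ν, g, hom_ext_of_atlas ha has (by rw [← Category.assoc, hg, ← Functor.map_comp, hc.fac, hw]),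
    hc.integral, fun T q hq F₁ b p' sqF N₁ c ν' sqN g₁ hgc hgν => ?_⟩
  haveI : IsIntegralHom ν'.left := isIntegralHom_snd sqN
  refine isNormOver_of_local hgν fun x => ⟨⊤, trivial, fun A hA _ F₂ b₂ p₂ sqF₂ N₂ c₂ ν₂ sqN₂ g₂ hg₂c hg₂ν => ?_⟩
  haveI : IsAffine (openObj T A).left := hA
  haveI := hq
  haveI : Smooth (openHom T A ≫ q).left := inferInstanceAs (Smooth (A.ι ≫ q.left))
  have sqF' : IsPullback (b₂ ≫ b) p₂ p ((yon S).map (openHom T A ≫ q)) := by
    rw [Functor.map_comp]; exact sqF₂.paste_horiz sqF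
  have sqN' := sqN₂.paste_horiz sqN
  obtain ⟨W', cW, w', sqW⟩ := exists_pb w (openHom T A ≫ q)
  obtain ⟨R', cR, r', sqR⟩ := exists_pb (t ≫ w) (openHom T A ≫ q)
  let a' : (yon S).obj W' ⟶ F₂ := sqF'.lift ((yon S).map cW ≫ a) ((yon S).map w') (by
    rw [Category.assoc, ← hw, ← Functor.map_comp, ← Functor.map_comp, sqW.w])
  have ha'₁ : a' ≫ (b₂ ≫ b) = (yon S).map cW ≫ a := sqF'.lift_fst _ _ _
  have ha'₂ : a' ≫ p₂ = (yon S).map w' := sqF'.lift_snd _ _ _
  have sqa : IsPullback ((yon S).map cW) a' a (b₂ ≫ b) :=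
    IsPullback.of_bot (by rw [ha'₂, ← hw]; exact isPullback_yon sqW) ha'₁.symm sqF'
  let t' : R' ⟶ W' := sqW.lift (cR ≫ t) r' (by rw [Category.assoc]; exact sqR.w)
  let s' : R' ⟶ W' := sqW.lift (cR ≫ s) r' (by rw [Category.assoc, ← hts]; exact sqR.w)
  have ht : t' ≫ cW = cR ≫ t := sqW.lift_fst _ _ _
  have ht' : t' ≫ w' = r' := sqW.lift_snd _ _ _
  have hs : s' ≫ cW = cR ≫ s := sqW.lift_fst _ _ _
  have hs' : s' ≫ w' = r' := sqW.lift_snd _ _ _
  have sq' : IsPullback ((yon S).map t') ((yon S).map s') a' a' := by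
    have hl : ∀ d : PullbackCone a' a', (d.fst ≫ (yon S).map cW) ≫ a = (d.snd ≫ (yon S).map cW) ≫ a := fun d => by
      rw [Category.assoc, Category.assoc, ← ha'₁, reassoc_of% d.condition]
    have hl' : ∀ d : PullbackCone a' a', sq.lift _ _ (hl d) ≫ (yon S).map (t ≫ w) =
        (d.fst ≫ (yon S).map w') ≫ (yon S).map (openHom T A ≫ q) := fun d => by
      rw [Functor.map_comp, sq.lift_fst_assoc, Category.assoc, Category.assoc, ← Functor.map_comp,
        ← Functor.map_comp, sqW.w]
    refine ⟨⟨sqF'.hom_ext ?_ ?_⟩, ⟨PullbackCone.IsLimit.mk _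
      (fun d => (isPullback_yon sqR).lift (sq.lift _ _ (hl d)) (d.fst ≫ (yon S).map w') (hl' d))
      (fun d => ?_) (fun d => ?_) (fun d m h₁ h₂ => ?_)⟩⟩
    · rw [Category.assoc, Category.assoc, ha'₁, ← Functor.map_comp_assoc, ← Functor.map_comp_assoc, ht, hs,
        Functor.map_comp_assoc, Functor.map_comp_assoc, sq.w]
    · rw [Category.assoc, Category.assoc, ha'₂, ← Functor.map_comp, ← Functor.map_comp, ht', hs']
    · apply (isPullback_yon sqW).hom_ext
      · rw [Category.assoc, ← Functor.map_comp, ht, (yon S).map_comp cR t, IsPullback.lift_fst_assoc,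
          IsPullback.lift_fst]
      · rw [Category.assoc, ← Functor.map_comp, ht', IsPullback.lift_snd]
    · apply (isPullback_yon sqW).hom_ext
      · rw [Category.assoc, ← Functor.map_comp, hs, (yon S).map_comp cR s, IsPullback.lift_fst_assoc,
          IsPullback.lift_snd]
      · rw [Category.assoc, ← Functor.map_comp, hs', IsPullback.lift_snd, ← ha'₂, reassoc_of% d.condition]
    · apply (isPullback_yon sqR).hom_ext
      · rw [IsPullback.lift_fst]
        apply sq.hom_ext
        · rw [IsPullback.lift_fst, ← h₁, Category.assoc, Category.assoc, ← Functor.map_comp, ← Functor.map_comp, ht]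
        · rw [IsPullback.lift_snd, ← h₂, Category.assoc, Category.assoc, ← Functor.map_comp, ← Functor.map_comp, hs]
      · rw [IsPullback.lift_snd, ← h₁, Category.assoc, ← Functor.map_comp, ht']
  obtain ⟨gW', hgW'⟩ := (yon S).map_surjective (a' ≫ g₂)
  have e₁ : gW' ≫ c₂ ≫ c = cW ≫ gW := (yon S).map_injective (by
    rw [Functor.map_comp, Functor.map_comp, hgW', Functor.map_comp, ← hg, ← Category.assoc ((yon S).map cW), ← ha'₁]
    simp only [Category.assoc]
    rw [reassoc_of% hg₂c, hgc])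
  have e₂ : gW' ≫ ν₂ = w' := (yon S).map_injective (by rw [Functor.map_comp, hgW', Category.assoc, hg₂ν, ha'₂])
  haveI : IsAffineHom w'.left := MorphismProperty.of_isPullback (P := @IsAffineHom) (isPullback_left sqW) inferInstance
  haveI : IsAffine W'.left := isAffine_of_isAffineHom w'.left
  have hc' := hc.baseChange hts sqW sqR ht ht' hs hs' sqN' e₁ e₂
  exact hc'.isNormOver (repWith_of_isPullback sqa ha) (repWith_of_isPullback sqa has) sq' ha'₂ hgW'.symm

/-- Stable normalisations glue over disjoint open subschemes. -/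
theorem exists_isStableNorm_of_disjoint {κ : Type u} {V : Over S} {Vi : κ → Over S} (si : ∀ i, Vi i ⟶ V)
    [∀ i, IsOpenImmersion (si i).left] (hcov : ∀ v : V.left, ∃ i, v ∈ Set.range (si i).left)
    (hdisj : ∀ i j, i ≠ j → Disjoint (Set.range (si i).left) (Set.range (si j).left))
    {F : Sp S} (hF : IsAlgSpace F) (p : F ⟶ (yon S).obj V)
    (h : ∀ (i : κ) ⦃Fi : Sp S⦄ (b : Fi ⟶ F) (pi : Fi ⟶ (yon S).obj (Vi i)), IsAlgSpace Fi →
      IsPullback b pi p ((yon S).map (si i)) → ∃ (N : Over S) (ν : N ⟶ Vi i) (g : Fi ⟶ (yon S).obj N),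
        g ≫ (yon S).map ν = pi ∧ IsIntegralHom ν.left ∧ IsStableNorm pi ν g) :
    ∃ (N : Over S) (ν : N ⟶ V) (g : F ⟶ (yon S).obj N),
      g ≫ (yon S).map ν = p ∧ IsIntegralHom ν.left ∧ IsStableNorm p ν g := by
  let Fi := fun i => pullback p ((yon S).map (si i))
  let b : ∀ i, Fi i ⟶ F := fun i => pullback.fst p ((yon S).map (si i))
  let pI : ∀ i, Fi i ⟶ (yon S).obj (Vi i) := fun i => pullback.snd p ((yon S).map (si i))
  have sqF : ∀ i, IsPullback (b i) (pI i) p ((yon S).map (si i)) := fun i => IsPullback.of_hasPullback _ _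
  have hFi : ∀ i, IsAlgSpace (Fi i) := fun i =>
    isAlgSpace_pullback hF (IsAlgSpace.yon_obj _) (IsAlgSpace.yon_obj _) _ _
  choose Ni νi gi hgi hνi hst using fun i => h i (b i) (pI i) (hFi i) (sqF i)
  let σ : (∐ fun i => (Ni i).left) ⟶ V.left := Sigma.desc fun i => (νi i).left ≫ (si i).left
  let N : Over S := Over.mk (σ ≫ V.hom)
  let ν : N ⟶ V := Over.homMk σ rfl
  have hσ : ∀ i, Sigma.ι (fun i => (Ni i).left) i ≫ σ = (νi i).left ≫ (si i).left := fun i => Sigma.ι_desc _ _
  let inc : ∀ i, Ni i ⟶ N := fun i => Over.homMk (Sigma.ι (fun i => (Ni i).left) i) (by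
    show _ ≫ σ ≫ V.hom = _
    rw [reassoc_of% hσ i, Over.w (si i), Over.w (νi i)])
  have hinc : ∀ i, inc i ≫ ν = νi i ≫ si i := fun i => Over.OverMorphism.ext (hσ i)
  have sqN : ∀ i, IsPullback (inc i) (νi i) ν (si i) := fun i => by
    refine IsPullback.of_map (Over.forget S) (hinc i) ?_
    show IsPullback (Sigma.ι (fun i => (Ni i).left) i) (νi i).left σ (si i).left
    refine (IsOpenImmersion.isPullback _ _ _ _ (hσ i) (SetLike.ext fun n => ⟨?_, ?_⟩)).flip
    · rintro ⟨v, hv⟩
      obtain ⟨j, y, rfl⟩ : ∃ (j : κ) (y : (Ni j).left), Sigma.ι (fun i => (Ni i).left) j y = n :=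
        ⟨_, _, ((sigmaOpenCover fun i => (Ni i).left).covers n).choose_spec⟩
      rcases eq_or_ne j i with rfl | hne
      · exact ⟨y, rfl⟩
      · refine (Set.disjoint_left.1 (hdisj j i hne) ⟨(νi j).left y, ?_⟩ ⟨v, hv⟩).elim
        rw [← Scheme.Hom.comp_apply, ← hσ, Scheme.Hom.comp_apply]
    · rintro ⟨y, rfl⟩
      exact ⟨(νi i).left y, by rw [← Scheme.Hom.comp_apply, ← hσ, Scheme.Hom.comp_apply]⟩
  haveI hνint : IsIntegralHom ν.left := by
    refine IsZariskiLocalAtTarget.of_openCover (P := @IsIntegralHom)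
      ({ I₀ := κ, X := fun i => (Vi i).left, f := fun i => (si i).left, mem₀ := by
          rw [Scheme.presieve₀_mem_precoverage_iff]
          exact ⟨fun v => hcov v, fun i => inferInstance⟩ } : V.left.OpenCover) fun i => ?_
    show IsIntegralHom (pullback.snd ν.left (si i).left)
    rw [← (isPullback_left (sqN i)).isoPullback_inv_snd]
    exact MorphismProperty.RespectsIso.precomp @IsIntegralHom _ _ (hνi i)
  obtain ⟨U, a₀, ha₀, ha₀s⟩ := hF.atlas
  obtain ⟨ρ, hρ⟩ := (yon S).map_surjective (a₀ ≫ p)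
  choose Ui d r sqU using fun i => exists_pb ρ (si i)
  haveI : ∀ i, IsOpenImmersion (d i).left := fun i =>
    MorphismProperty.of_isPullback (P := @IsOpenImmersion) (isPullback_left (sqU i)).flip inferInstance
  have hUcov : ∀ u : U.left, ∃ i, u ∈ Set.range (d i).left := fun u => by
    obtain ⟨i, v, hv⟩ := hcov (ρ.left u)
    obtain ⟨z, hz, -⟩ := Scheme.exists_preimage_of_isPullback (isPullback_left (sqU i)) u v hv.symm
    exact ⟨i, z, hz⟩
  let l : ∀ i, (yon S).obj (Ui i) ⟶ Fi i := fun i => (sqF i).lift ((yon S).map (d i) ≫ a₀) ((yon S).map (r i)) (by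
    rw [Category.assoc, ← hρ, ← Functor.map_comp, ← Functor.map_comp, (sqU i).w])
  have hl₁ : ∀ i, l i ≫ b i = (yon S).map (d i) ≫ a₀ := fun i => (sqF i).lift_fst _ _ _
  have hl₂ : ∀ i, l i ≫ pI i = (yon S).map (r i) := fun i => (sqF i).lift_snd _ _ _
  have hempty : ∀ {Z : Over S} (i j : κ), i ≠ j → ∀ (u : Z ⟶ Vi i) (v : Z ⟶ Vi j), u ≫ si i = v ≫ si j →
      IsEmpty Z.left := fun i j hne u v e => ⟨fun z => Set.disjoint_left.1 (hdisj i j hne) ⟨u.left z, rfl⟩
    ⟨v.left z, ((Scheme.Hom.comp_apply _ _ _).symm.trans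
      (congrArg (fun k : _ ⟶ V => k.left z) e.symm)).trans (Scheme.Hom.comp_apply _ _ _)⟩⟩
  haveI : ∀ i, Mono (si i) := fun i => (Over.forget S).mono_of_mono_map (inferInstanceAs (Mono (si i).left))
  haveI : ∀ i, Mono (d i) := fun i => (Over.forget S).mono_of_mono_map (inferInstanceAs (Mono (d i).left))
  obtain ⟨x, hx⟩ := exists_amalgamation d (fun i => inferInstance) (fun i => inferInstance) hUcov
    (fun i => l i ≫ gi i ≫ (yon S).map (inc i)) fun i j Z u v e => by
      rcases eq_or_ne i j with rfl | hne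
      · rw [(cancel_mono (d i)).1 e]
      · haveI := hempty i j hne (u ≫ r i) (v ≫ r j) (by
          rw [Category.assoc, ← (sqU i).w, Category.assoc, ← (sqU j).w, reassoc_of% e])
        haveI := subsingleton_obj_of_isEmpty ((yon S).obj N) (Z := Z)
        exact (GrothendieckTopology.uliftYonedaEquiv.{u + 1} (J := AlgSp.J S)).injective (Subsingleton.elim _ _)
  obtain ⟨g, hg⟩ := exists_desc_of_atlas ha₀ ha₀s x fun Z u v e => by
    have eρ : u ≫ ρ = v ≫ ρ := (yon S).map_injective (by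
      rw [Functor.map_comp, Functor.map_comp, hρ, reassoc_of% e])
    choose Zi k z sqZ using fun i => exists_pb (u ≫ ρ) (si i)
    haveI : ∀ i, IsOpenImmersion (k i).left := fun i =>
      MorphismProperty.of_isPullback (P := @IsOpenImmersion) (isPullback_left (sqZ i)).flip inferInstance
    refine AlgSpLib.hom_ext_of_cover k (fun i => inferInstance) (fun i => inferInstance) (fun y => ?_) fun i => ?_
    · obtain ⟨i, v, hv⟩ := hcov ((u ≫ ρ).left y)
      obtain ⟨z', hz', -⟩ := Scheme.exists_preimage_of_isPullback (isPullback_left (sqZ i)) y v hv.symm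
      exact ⟨i, z', hz'⟩
    have hu : ∃ m, m ≫ d i = k i ≫ u ∧ m ≫ r i = z i := ⟨(sqU i).lift (k i ≫ u) (z i)
      (by rw [Category.assoc]; exact (sqZ i).w), (sqU i).lift_fst _ _ _, (sqU i).lift_snd _ _ _⟩
    have hv : ∃ m, m ≫ d i = k i ≫ v ∧ m ≫ r i = z i := ⟨(sqU i).lift (k i ≫ v) (z i)
      (by rw [Category.assoc, ← eρ]; exact (sqZ i).w), (sqU i).lift_fst _ _ _, (sqU i).lift_snd _ _ _⟩
    obtain ⟨mu, hmu, hmu'⟩ := hu
    obtain ⟨mv, hmv, hmv'⟩ := hv
    have el : (yon S).map mu ≫ l i = (yon S).map mv ≫ l i := by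
      apply (sqF i).hom_ext
      · rw [Category.assoc, Category.assoc, hl₁, ← Functor.map_comp_assoc, ← Functor.map_comp_assoc, hmu, hmv,
          Functor.map_comp_assoc, Functor.map_comp_assoc, e]
      · rw [Category.assoc, Category.assoc, hl₂, ← Functor.map_comp, ← Functor.map_comp, hmu', hmv']
    rw [← Functor.map_comp_assoc, ← Functor.map_comp_assoc, ← hmu, ← hmv, Functor.map_comp_assoc,
      Functor.map_comp_assoc, hx, reassoc_of% el]
  have hbg : ∀ i, b i ≫ g = gi i ≫ (yon S).map (inc i) := fun i => by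
    have sql : IsPullback ((yon S).map (d i)) (l i) a₀ (b i) :=
      IsPullback.of_bot (by rw [hl₂, ← hρ]; exact isPullback_yon (sqU i)) (hl₁ i).symm (sqF i)
    refine hom_ext_of_atlas (repWith_of_isPullback sql ha₀) (repWith_of_isPullback sql ha₀s) ?_
    rw [reassoc_of% hl₁ i, hg, hx]
  have hgν : g ≫ (yon S).map ν = p := by
    refine hom_ext_of_atlas ha₀ ha₀s (AlgSpLib.hom_ext_of_cover d (fun i => inferInstance) (fun i => inferInstance)
      hUcov fun i => ?_)
    rw [reassoc_of% hg, reassoc_of% hx i, ← Functor.map_comp, hinc, Functor.map_comp, reassoc_of% hgi i,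
      reassoc_of% hl₂ i, ← hρ, ← Functor.map_comp, ← Functor.map_comp, (sqU i).w]
  refine ⟨N, ν, g, hgν, hνint, fun T q hq F₁ b₁ p₁ sqF₁ N₁ c₁ ν₁ sqN₁ g₁ hgc hgν₁ => ?_⟩
  haveI := hq
  haveI : IsIntegralHom ν₁.left := isIntegralHom_snd sqN₁
  refine isNormOver_of_local hgν₁ fun x => ?_
  obtain ⟨i, hi⟩ := hcov (q.left x)
  refine ⟨q.left ⁻¹ᵁ (si i).left.opensRange, hi, fun A hA hAO F₂ b₂ p₂ sqF₂ N₂ c₂ ν₂ sqN₂ g₂ hg₂c hg₂ν => ?_⟩
  let φ := openHom T A ≫ q
  have hφ : Set.range φ.left ⊆ Set.range (si i).left := by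
    rintro _ ⟨v, rfl⟩
    exact hAO v.2
  let r : openObj T A ⟶ Vi i := Over.homMk (IsOpenImmersion.lift (si i).left φ.left hφ) (by
    rw [← Over.w (si i), IsOpenImmersion.lift_fac_assoc, Over.w φ])
  have hr : r ≫ si i = φ := Over.OverMorphism.ext (IsOpenImmersion.lift_fac _ _ _)
  haveI : Smooth (r.left ≫ (si i).left) := by
    rw [← Over.comp_left, hr]; exact inferInstanceAs (Smooth (A.ι ≫ q.left))
  haveI : Smooth r.left := smooth_of_comp_openImmersion r.left (si i).left
  have sqF₂' : IsPullback (b₂ ≫ b₁) p₂ p ((yon S).map r ≫ (yon S).map (si i)) := by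
    rw [← Functor.map_comp, hr, Functor.map_comp]; exact sqF₂.paste_horiz sqF₁
  have sqN₂' : IsPullback (c₂ ≫ c₁) ν₂ ν (r ≫ si i) := by rw [hr]; exact sqN₂.paste_horiz sqN₁
  let bF := (sqF i).lift (b₂ ≫ b₁) (p₂ ≫ (yon S).map r) (by rw [Category.assoc]; exact sqF₂'.w)
  have hbF₁ : bF ≫ b i = b₂ ≫ b₁ := (sqF i).lift_fst _ _ _
  have hbF₂ : bF ≫ pI i = p₂ ≫ (yon S).map r := (sqF i).lift_snd _ _ _
  let cN := (sqN i).lift (c₂ ≫ c₁) (ν₂ ≫ r) (by rw [Category.assoc ν₂]; exact sqN₂'.w)
  have hcN₁ : cN ≫ inc i = c₂ ≫ c₁ := (sqN i).lift_fst _ _ _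
  have hcN₂ : cN ≫ νi i = ν₂ ≫ r := (sqN i).lift_snd _ _ _
  refine hst i r inferInstance bF p₂ (IsPullback.of_right (by rw [hbF₁]; exact sqF₂') hbF₂ (sqF i))
    cN ν₂ (IsPullback.of_right (by rw [hcN₁]; exact sqN₂') hcN₂ (sqN i)) g₂ ?_ hg₂ν
  apply (isPullback_yon (sqN i)).hom_ext
  · rw [Category.assoc, ← Functor.map_comp, hcN₁, Functor.map_comp, reassoc_of% hg₂c, hgc, Category.assoc,
      ← hbg, ← Category.assoc bF, hbF₁, Category.assoc]
  · rw [Category.assoc, ← Functor.map_comp, hcN₂, Functor.map_comp, reassoc_of% hg₂ν, Category.assoc, hgi, hbF₂]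

/-- Stable normalisations over a disjoint union of affine schemes. -/
theorem exists_isStableNorm {κ : Type u} {V : Over S} {Vi : κ → Over S} (si : ∀ i, Vi i ⟶ V)
    [∀ i, IsOpenImmersion (si i).left] (haff : ∀ i, IsAffine (Vi i).left)
    (hcov : ∀ v : V.left, ∃ i, v ∈ Set.range (si i).left)
    (hdisj : ∀ i j, i ≠ j → Disjoint (Set.range (si i).left) (Set.range (si j).left))
    {F : Sp S} (hF : IsAlgSpace F) (p : F ⟶ (yon S).obj V) (hqc : IsQuasiCompactMor p)
    (hqs : IsQuasiSeparatedMor p) :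
    ∃ (N : Over S) (ν : N ⟶ V) (g : F ⟶ (yon S).obj N),
      g ≫ (yon S).map ν = p ∧ IsIntegralHom ν.left ∧ IsStableNorm p ν g :=
  exists_isStableNorm_of_disjoint si hcov hdisj hF p fun i Fi b pi hFi sq => by
    haveI := haff i
    exact exists_isStableNorm_affine hFi pi (isQuasiCompactMor_of_isPullback sq hqc)
      (isQuasiSeparatedMor_of_isPullback sq hqs)

end NormSpLib
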