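import Groth.Agent.NormSpLib.Main
import Groth.Agent.AlgSpLib.SepLqfScheme
import Groth.Agent.AlgSpLib.RepDescent
import Groth.Agent.S10298

/-! Normalisation of separated quasi-finite morphisms. -/

set_option autoImplicit false
set_option backward.isDefEq.respectTransparency false
set_option backward.isDefEq.respectTransparency.types false

universe u

open CategoryTheory CategoryTheory.Limits AlgebraicGeometry Opposite AlgSp AlgSpLib

noncomputable section

namespace NormSpLib

variable {S : Scheme.{u}}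

theorem isQuasiFinite_props {W T : Over S} {w : W ⟶ T}
    (hl : LocP (@LocallyQuasiFinite ⊓ @LocallyOfFiniteType) ((yon S).map w))
    (hc : IsQuasiCompactMor ((yon S).map w)) (hs : IsSeparatedMor ((yon S).map w)) :
    IsSeparated w.left ∧ QuasiCompact w.left ∧ LocallyQuasiFinite w.left ∧ LocallyOfFiniteType w.left := by
  have h := hl (𝟙 ((yon S).obj W)) (𝟙 _) w (repWith_id @Etale W) (repWith_id @Etale T) (by simp)
  refine ⟨(isSeparatedMor_yon_map_iff w).1 hs, ?_, h.1, h.2⟩
  exact (repWith_yon_map_iff (P := (@QuasiCompact : MorphismProperty Scheme.{u})) w).1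
    ((repWith_quasiCompact_iff (IsAlgSpace.yon_obj W) (IsAlgSpace.yon_obj T)
      (representable_yon_map w)).2 hc)

/-- The scheme `W` over `V` representing a separated quasi-compact quasi-finite space over `V`. -/
theorem exists_rep_qf {V : Over S} {F : Sp S} (hF : IsAlgSpace F) {p : F ⟶ (yon S).obj V}
    (hl : LocP (@LocallyQuasiFinite ⊓ @LocallyOfFiniteType) p) (hc : IsQuasiCompactMor p) (hs : IsSeparatedMor p) :
    ∃ (W : Over S) (e : (yon S).obj W ≅ F) (w : W ⟶ V), (yon S).map w = e.hom ≫ p ∧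
      IsSeparated w.left ∧ QuasiCompact w.left ∧ LocallyQuasiFinite w.left ∧ LocallyOfFiniteType w.left := by
  obtain ⟨W, ⟨e⟩⟩ := isRepSh_of_sep_lqf hF hs hl
  obtain ⟨w, hw⟩ := (yon S).map_surjective (e.hom ≫ p)
  have sq : IsPullback e.hom ((yon S).map w) p (𝟙 _) := IsPullback.of_horiz_isIso ⟨by rw [hw, Category.comp_id]⟩
  exact ⟨W, e, w, hw, isQuasiFinite_props
    (locP_of_isPullback hF (IsAlgSpace.yon_obj V) (IsAlgSpace.yon_obj V) sq hl)
    (isQuasiCompactMor_of_isPullback sq hc) (repWith_diagonal_of_isPullback sq hs)⟩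

/-- For quasi-finite separated morphisms the map to the normalisation is an open immersion. -/
theorem repWith_openImmersion_toNorm {X Y Y' : Sp S} (hX : IsAlgSpace X) (hY : IsAlgSpace Y) (hY' : IsAlgSpace Y')
    {f : X ⟶ Y} (hl : LocP (@LocallyQuasiFinite ⊓ @LocallyOfFiniteType) f) (hc : IsQuasiCompactMor f)
    (hs : IsSeparatedMor f) {ν : Y' ⟶ Y} {f' : X ⟶ Y'} (hn : IsRelNormalization f ν f') :
    RepWith @IsOpenImmersion f' := by
  obtain ⟨V, φ, hφ, hφs⟩ := hY.atlas
  have sqX := IsPullback.of_hasPullback f φ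
  have sqY := IsPullback.of_hasPullback ν φ
  have hF := isAlgSpace_pullback hX (IsAlgSpace.yon_obj V) hY f φ
  have hP := isAlgSpace_pullback hY' (IsAlgSpace.yon_obj V) hY ν φ
  let fV : pullback f φ ⟶ pullback ν φ := sqY.lift (pullback.fst f φ ≫ f') (pullback.snd f φ) (by
    rw [Category.assoc, hn.1, sqX.w])
  have hfV₁ : fV ≫ pullback.fst ν φ = pullback.fst f φ ≫ f' := sqY.lift_fst _ _ _
  have hfV₂ : fV ≫ pullback.snd ν φ = pullback.snd f φ := sqY.lift_snd _ _ _
  have hnV := isRelNormalization_smooth_pullback hY (IsAlgSpace.yon_obj V) hX hY' sqX hc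
    (isQuasiSeparatedMor_of_isSeparatedMor hs) (locP_smooth_of_isEtaleMor (isEtaleMor_of_repWith hφ)) hn sqY
    hfV₂ hfV₁
  obtain ⟨W, e, w, hw, _, _, _, _⟩ := exists_rep_qf hF
    (locP_of_isPullback hX hY (IsAlgSpace.yon_obj V) sqX hl) (isQuasiCompactMor_of_isPullback sqX hc)
    (repWith_diagonal_of_isPullback sqX hs)
  let N : Over S := Over.mk (w.left.fromNormalization ≫ V.hom)
  let μ : N ⟶ V := Over.homMk w.left.fromNormalization rfl
  let t : W ⟶ N := Over.homMk w.left.toNormalization (by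
    show w.left.toNormalization ≫ w.left.fromNormalization ≫ V.hom = _
    rw [Scheme.Hom.toNormalization_fromNormalization_assoc, Over.w w])
  have hnW : IsRelNormalization ((yon S).map w) ((yon S).map μ) ((yon S).map t) :=
    Groth.Agent.S10298.result w t μ (Iso.refl _) (Category.comp_id _) (Category.id_comp _)
  have hd : e.inv ≫ (yon S).map w = pullback.snd f φ := by rw [hw, Iso.inv_hom_id_assoc]
  obtain ⟨a, ⟨ha₁, ha₂⟩, -⟩ := hnV.2.2 (IsAlgSpace.yon_obj N) ((yon S).map μ) (e.inv ≫ (yon S).map t) hnW.2.1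
    (by rw [Category.assoc, hnW.1, hd])
  obtain ⟨b, ⟨hb₁, hb₂⟩, -⟩ := hnW.2.2 hP (pullback.snd ν φ) (e.hom ≫ fV) hnV.2.1
    (by rw [Category.assoc, hfV₂, hw])
  have hab : a ≫ b = 𝟙 (pullback ν φ) := (hnV.2.2 hP (pullback.snd ν φ) fV hnV.2.1 hfV₂).unique
    ⟨by rw [reassoc_of% ha₁, hb₁, Iso.inv_hom_id_assoc], by rw [Category.assoc, hb₂, ha₂]⟩
    ⟨Category.comp_id _, Category.id_comp _⟩
  have hba : b ≫ a = 𝟙 _ := (hnW.2.2 (IsAlgSpace.yon_obj N) ((yon S).map μ) ((yon S).map t) hnW.2.1 hnW.1).unique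
    ⟨by rw [reassoc_of% hb₁, ha₁, Iso.hom_inv_id_assoc], by rw [Category.assoc, ha₂, hb₂]⟩
    ⟨Category.comp_id _, Category.id_comp _⟩
  have hopen : RepWith @IsOpenImmersion fV := by
    have ht : RepWith @IsOpenImmersion ((yon S).map t) :=
      (repWith_yon_map_iff (P := (@IsOpenImmersion : MorphismProperty Scheme.{u})) t).2
        (inferInstanceAs (IsOpenImmersion w.left.toNormalization))
    haveI : IsIso b := ⟨a, hba, hab⟩
    have efV : fV = e.inv ≫ (yon S).map t ≫ b := by rw [hb₁, Iso.inv_hom_id_assoc]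
    rw [efV]
    exact MorphismProperty.RespectsIso.precomp _ _ _ (MorphismProperty.RespectsIso.postcomp _ _ _ ht)
  have sqf : IsPullback (pullback.fst f φ) fV f' (pullback.fst ν φ) :=
    IsPullback.of_bot (by rw [hfV₂, hn.1]; exact sqX) hfV₁.symm sqY
  have hpr : RepWith @Etale (pullback.fst ν φ) := repWith_of_isPullback sqY.flip hφ
  have hprs : RepWith @Surjective (pullback.fst ν φ) := repWith_of_isPullback sqY.flip hφs
  haveI : Sheaf.IsLocallySurjective (pullback.fst ν φ) := isLocallySurjective_of_repWith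
    (repWith_mono (fun _ _ g (_ : Etale g) => (inferInstance : Flat g)) hpr)
    (repWith_mono (fun _ _ g (_ : Etale g) => (inferInstance : LocallyOfFinitePresentation g)) hpr) hprs
  exact repWith_of_cover sqf (representable_of_cover isEffClass_sepLqf sqf
    (repWith_mono (fun _ _ g (_ : IsOpenImmersion g) => ⟨inferInstance, inferInstance, inferInstance⟩) hopen)) hopen

end NormSpLib
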