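import Groth.Agent.NormSpLib.Main
import Groth.Agent.AlgSpLib.SepLqfScheme
import Groth.Agent.AlgSpLib.HasAt
import Groth.Agent.AlgSpLib.MorPack
import Groth.Agent.FiltLib.Strata
import Groth.Prelude.Def_AlgSpDec

/-! Étale local splitting at quasi-finite points and the normalisation. -/

set_option autoImplicit false
set_option backward.isDefEq.respectTransparency false
set_option backward.isDefEq.respectTransparency.types false

universe u

open CategoryTheory CategoryTheory.Limits AlgebraicGeometry Opposite AlgSp AlgSpLib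

noncomputable section

namespace NormSpLib

variable {S : Scheme.{u}}

/-- An étale morphism out of a scheme is representable. -/
theorem repWith_etale_of_isEtaleMor {U : Over S} {F : Sp S} {a : (yon S).obj U ⟶ F} (h : IsEtaleMor a) :
    RepWith @Etale a := by
  have := h (𝟙 _) (repWith_id @Etale U)
  rwa [Category.id_comp] at this

/-- A finite open and closed piece through a quasi-finite point, after étale localisation. -/
theorem exists_finite_piece {X Y : Sp S} (hX : IsAlgSpace X) (hY : IsAlgSpace Y) {f : X ⟶ Y}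
    (hsep : IsSeparatedMor f) {x : Points X}
    (hx : HasAtMor (fun U _ h u => ∃ W : U.Opens, u ∈ W ∧ LocallyQuasiFinite (W.ι ≫ h) ∧
      LocallyOfFiniteType (W.ι ≫ h)) f x) :
    ∃ (T : Over S) (b : (yon S).obj T ⟶ Y) (F : Sp S) (bX : F ⟶ X) (p : F ⟶ (yon S).obj T) (I : Over S)
      (j : (yon S).obj I ⟶ F) (i : I ⟶ T),
      RepWith @Etale b ∧ IsPullback bX p f b ∧ RepWith @IsOpenImmersion j ∧
      IsClosed (Set.range (Points.map j)) ∧ j ≫ p = (yon S).map i ∧ IsFinite i.left ∧
      x ∈ Set.range (Points.map (j ≫ bX)) := by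
  obtain ⟨U, V, a, b, h, u, ha, hb, e, rfl, W, huW, _, _⟩ := hx
  obtain ⟨O, hO, huO, hOW⟩ := exists_isAffineOpen_mem_and_subset (U := W) (x := u) huW
  haveI : IsAffine O := hO
  let hO' := O.ι ≫ h.left
  have eO : (U.left.homOfLE hOW) ≫ W.ι ≫ h.left = hO' := by rw [Scheme.homOfLE_ι_assoc]
  haveI : LocallyQuasiFinite hO' := by rw [← eO]; infer_instance
  haveI : LocallyOfFiniteType hO' := by rw [← eO]; infer_instance
  haveI : IsSeparated hO' := IsSeparated.of_comp hO' (terminal.from V.left)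
  obtain ⟨T₀, g, hg, -, V₁, W₁, v, -, hfin, hv⟩ :=
    exists_etale_isCompl_of_quasiFiniteAt hO' rfl (hO'.quasiFiniteAt ⟨u, huO⟩)
  haveI := hg
  let T : Over S := Over.mk (g ≫ V.hom)
  let gT : T ⟶ V := Over.homMk g rfl
  have hbT : RepWith @Etale ((yon S).map gT ≫ b) :=
    repWith_comp ((repWith_yon_map_iff (P := (@Etale : MorphismProperty Scheme.{u})) gT).2 hg) hb
  have sqF := IsPullback.of_hasPullback f ((yon S).map gT ≫ b)
  have hF := isAlgSpace_pullback hX (IsAlgSpace.yon_obj T) hY f ((yon S).map gT ≫ b)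
  let bX := pullback.fst f ((yon S).map gT ≫ b)
  let p := pullback.snd f ((yon S).map gT ≫ b)
  let A : Over S := Over.mk ((V₁.ι ≫ pullback.snd hO' g) ≫ T.hom)
  let iA : A ⟶ T := Over.homMk (V₁.ι ≫ pullback.snd hO' g) rfl
  let oA : A ⟶ U := Over.homMk (V₁.ι ≫ pullback.fst hO' g ≫ O.ι) (by
    show (V₁.ι ≫ pullback.fst hO' g ≫ O.ι) ≫ U.hom = (V₁.ι ≫ pullback.snd hO' g) ≫ g ≫ V.hom
    rw [← Over.w h]
    simp only [Category.assoc]
    rw [← reassoc_of% (pullback.condition (f := hO') (g := g))]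
    simp [hO'])
  have eA : oA ≫ h = iA ≫ gT := Over.OverMorphism.ext (by
    show (V₁.ι ≫ pullback.fst hO' g ≫ O.ι) ≫ h.left = (V₁.ι ≫ pullback.snd hO' g) ≫ g
    simp only [Category.assoc]
    rw [← pullback.condition (f := hO') (g := g)])
  let α : (yon S).obj A ⟶ pullback f ((yon S).map gT ≫ b) := sqF.lift ((yon S).map oA ≫ a) ((yon S).map iA) (by
    rw [Category.assoc, e, ← Functor.map_comp_assoc, ← Functor.map_comp_assoc, eA])
  have hα₁ : α ≫ bX = (yon S).map oA ≫ a := sqF.lift_fst _ _ _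
  have hα₂ : α ≫ p = (yon S).map iA := sqF.lift_snd _ _ _
  haveI : Etale (pullback.fst hO' g) :=
    MorphismProperty.of_isPullback (P := @Etale) (IsPullback.of_hasPullback hO' g).flip hg
  haveI : Etale oA.left := inferInstanceAs (Etale (V₁.ι ≫ pullback.fst hO' g ≫ O.ι))
  have hbX : RepWith @Etale bX := repWith_of_isPullback sqF.flip hbT
  have hαe : RepWith @Etale α := repWith_etale_of_isEtaleMor (isEtaleMor_of_comp hF
    (by rw [hα₁]
        exact isEtaleMor_of_repWith
          (repWith_comp ((repWith_yon_map_iff (P := (@Etale : MorphismProperty Scheme.{u})) oA).2 inferInstance) ha))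
    (isEtaleMor_of_repWith hbX))
  have hpsep : IsSeparatedMor p := repWith_diagonal_of_isPullback sqF hsep
  haveI : IsFinite iA.left := hfin
  have hαf : RepWith @IsFinite α := repWith_of_comp (P := @IsFinite)
    (fun _ _ k (_ : IsClosedImmersion k) => (inferInstance : IsFinite k)) hpsep
    (by rw [hα₂]; exact (repWith_yon_map_iff (P := (@IsFinite : MorphismProperty Scheme.{u})) iA).2 hfin)
  have hclosed : IsClosed (Set.range (Points.map α)) :=
    (isClosedMap_of_isUnivClosedMor hF ((isUnivClosedMor_iff_repWith (IsAlgSpace.yon_obj A) hF hαf.rep).1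
      (repWith_mono (fun _ _ k (_ : IsFinite k) => (inferInstance : UniversallyClosed k)) hαf))).isClosed_range
  have hopen : IsOpen (Set.range (Points.map α)) :=
    (isOpenMap_map_of_isEtaleMor (IsAlgSpace.yon_obj A) (isEtaleMor_of_repWith hαe)).isOpen_range
  let jR := openSubι (pullback f ((yon S).map gT ≫ b)) (Set.range (Points.map α))
  have hjR : RepWith @IsOpenImmersion jR := repWith_openSubι _ hopen
  have hrange : Set.range (Points.map jR) = Set.range (Points.map α) := range_openSubι _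
  have hR : IsAlgSpace (openSub (pullback f ((yon S).map gT ≫ b)) (Set.range (Points.map α))) :=
    isAlgSpace_openSub hF hopen
  haveI : Mono jR := mono_of_openImmersion hjR
  obtain ⟨l, hl⟩ := (exists_factor_iff hjR α).2 hrange.ge
  have hle : RepWith @Etale l := FiltLib.repWith_of_comp_mono (by rw [hl]; exact hαe)
  have hls : RepWith @Surjective l := by
    refine (repWith_surjective_iff hle.rep).2 fun y => ?_
    obtain ⟨z, hz⟩ := hrange.le ⟨y, rfl⟩
    exact ⟨z, injective_map_of_mono jR (by rw [← Points.map_comp, hl, hz])⟩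
  have hpI : IsSeparatedMor (jR ≫ p) := isSeparatedMor_comp (isSeparatedMor_of_repWith
    (repWith_mono (fun _ _ k (_ : IsOpenImmersion k) => (inferInstance : IsSeparated k)) hjR)) hpsep
  have hqI : LocP (@LocallyQuasiFinite ⊓ @LocallyOfFiniteType) (jR ≫ p) :=
    (locP_iff_exists_chart hR (IsAlgSpace.yon_obj T) _).2 ⟨A, T, l, 𝟙 _, iA, hle, hls, repWith_id @Etale T,
      by rw [reassoc_of% hl, hα₂, Category.comp_id], ⟨inferInstance, inferInstance⟩⟩
  obtain ⟨I, ⟨eI⟩⟩ := isRepSh_of_sep_lqf hR hpI hqI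
  obtain ⟨i, hi⟩ := (yon S).map_surjective (eI.hom ≫ jR ≫ p)
  have hj : RepWith @IsOpenImmersion (eI.hom ≫ jR) := MorphismProperty.RespectsIso.precomp _ eI.hom _ hjR
  have hrI : Set.range (Points.map (eI.hom ≫ jR)) = Set.range (Points.map α) := by
    refine Eq.trans ?_ hrange
    refine Set.Subset.antisymm ?_ ?_
    · rintro _ ⟨y, rfl⟩
      exact ⟨Points.map eI.hom y, (Points.map_comp _ _ _).symm⟩
    · rintro _ ⟨y, rfl⟩
      exact ⟨Points.map eI.inv y, by rw [← Points.map_comp, Iso.inv_hom_id_assoc]⟩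
  obtain ⟨l', hl'⟩ := (yon S).map_surjective (l ≫ eI.inv)
  have hl'i : l' ≫ i = iA := (yon S).map_injective (by
    rw [Functor.map_comp, hl', hi, Category.assoc, Iso.inv_hom_id_assoc, reassoc_of% hl, hα₂])
  haveI : Surjective l'.left := surjective_left (by
    rw [hl']; exact MorphismProperty.RespectsIso.postcomp _ eI.inv _ hls)
  have sqI : IsPullback eI.hom ((yon S).map i) (jR ≫ p) (𝟙 _) :=
    IsPullback.of_horiz_isIso ⟨by rw [hi, Category.comp_id]⟩
  haveI : IsSeparated i.left := (isSeparatedMor_yon_map_iff i).1 (repWith_diagonal_of_isPullback sqI hpI)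
  have hqi := locP_of_isPullback hR (IsAlgSpace.yon_obj T) (IsAlgSpace.yon_obj T) sqI hqI
    (𝟙 ((yon S).obj I)) (𝟙 _) i (repWith_id @Etale I) (repWith_id @Etale T) (by simp)
  haveI : LocallyQuasiFinite i.left := hqi.1
  haveI : LocallyOfFiniteType i.left := hqi.2
  haveI : UniversallyClosed (l'.left ≫ i.left) := by
    rw [← Over.comp_left, hl'i]; infer_instance
  haveI : UniversallyClosed i.left := UniversallyClosed.of_comp_surjective l'.left i.left
  haveI : IsProper i.left := IsProper.mk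
  refine ⟨T, (yon S).map gT ≫ b, _, bX, p, I, eI.hom ≫ jR, i, hbT, sqF, hj, (by rw [hrI]; exact hclosed),
    by rw [Category.assoc, hi], IsFinite.of_isProper_of_locallyQuasiFinite i.left, ?_⟩
  let v' : A.left := v
  obtain ⟨y, hy⟩ := hrI.ge ⟨Points.schemeHomeo A v', rfl⟩
  refine ⟨y, ?_⟩
  rw [Points.map_comp, hy, ← Points.map_comp, hα₁]
  refine (Points.ofPt_eq_map_ofScheme _ v').symm.trans ?_
  rw [ofPt_yon_comp]
  refine congrArg _ ?_
  show (V₁.ι ≫ pullback.fst hO' g ≫ O.ι) v = u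
  rw [Scheme.Hom.comp_apply, Scheme.Hom.comp_apply, show V₁.ι v = v.1 from rfl, hv]
  rfl

/-- A finite open and closed piece of a space over a scheme is an open piece of the normalisation. -/
theorem exists_open_of_finite_piece {T : Over S} {F : Sp S} (hF : IsAlgSpace F) {p : F ⟶ (yon S).obj T}
    {N : Over S} {μ : N ⟶ T} [IsIntegralHom μ.left] {g : F ⟶ (yon S).obj N}
    (hn : IsRelNormalization p ((yon S).map μ) g) {I : Over S} {j : (yon S).obj I ⟶ F}
    (hj : RepWith @IsOpenImmersion j) (hjc : IsClosed (Set.range (Points.map j))) {i : I ⟶ T}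
    [IsIntegralHom i.left] (hi : j ≫ p = (yon S).map i) :
    ∃ k : I ⟶ N, IsOpenImmersion k.left ∧ IsPullback j (𝟙 ((yon S).obj I)) g ((yon S).map k) := by
  haveI : Mono j := mono_of_openImmersion hj
  obtain ⟨k, hk⟩ := (yon S).map_surjective (j ≫ g)
  have hkμ : k ≫ μ = i := (yon S).map_injective (by rw [Functor.map_comp, hk, Category.assoc, hn.1, hi])
  let ζ : I.left ⨿ N.left ⟶ T.left := coprod.desc i.left μ.left
  let Z : Over S := Over.mk (ζ ≫ T.hom)
  let z : Z ⟶ T := Over.homMk ζ rfl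
  let z₁ : I ⟶ Z := Over.homMk coprod.inl (by
    show coprod.inl ≫ coprod.desc i.left μ.left ≫ T.hom = _
    rw [coprod.inl_desc_assoc, Over.w i])
  let z₂ : N ⟶ Z := Over.homMk coprod.inr (by
    show coprod.inr ≫ coprod.desc i.left μ.left ≫ T.hom = _
    rw [coprod.inr_desc_assoc, Over.w μ])
  have hz₁ : z₁ ≫ z = i := Over.OverMorphism.ext (coprod.inl_desc _ _)
  have hz₂ : z₂ ≫ z = μ := Over.OverMorphism.ext (coprod.inr_desc _ _)
  let m : Z ⟶ N := Over.homMk (coprod.desc k.left (𝟙 N.left)) (by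
    show coprod.desc k.left (𝟙 N.left) ≫ N.hom = coprod.desc i.left μ.left ≫ T.hom
    apply coprod.hom_ext
    · rw [coprod.inl_desc_assoc, coprod.inl_desc_assoc, Over.w k, Over.w i]
    · rw [coprod.inr_desc_assoc, coprod.inr_desc_assoc, Category.id_comp, Over.w μ])
  have hm₁ : z₁ ≫ m = k := Over.OverMorphism.ext (coprod.inl_desc _ _)
  have hm₂ : z₂ ≫ m = 𝟙 N := Over.OverMorphism.ext (coprod.inr_desc _ _)
  obtain ⟨A, aA, haA, haAs⟩ := hF.atlas
  obtain ⟨A₁, d₁, c₁, sq₁⟩ : ∃ (A₁ : Over S) (d₁ : A₁ ⟶ A) (c₁ : (yon S).obj A₁ ⟶ (yon S).obj I),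
      IsPullback c₁ ((yon S).map d₁) j aA := ⟨_, _, _, hj.rep.isPullback aA⟩
  obtain ⟨k₁, rfl⟩ := (yon S).map_surjective c₁
  haveI : IsOpenImmersion d₁.left :=
    (repWith_yon_map_iff (P := (@IsOpenImmersion : MorphismProperty Scheme.{u})) d₁).1 (repWith_of_isPullback sq₁ hj)
  have hr₁ : Set.range d₁.left = Points.ofPt aA ⁻¹' Set.range (Points.map j) := by
    ext a
    constructor
    · rintro ⟨w, rfl⟩
      exact ⟨Points.ofPt ((yon S).map k₁) w, by
        rw [Points.map_ofPt, ← ofPt_yon_comp, sq₁.w]⟩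
    · intro ha
      obtain ⟨w, hw⟩ : Points.schemeHomeo A a ∈ Set.range (Points.map ((yon S).map d₁)) := by
        rw [range_map_of_isPullback sq₁, Set.mem_preimage]
        exact (Points.ofPt_eq_map_ofScheme aA a) ▸ ha
      obtain ⟨w, rfl⟩ := (Points.schemeHomeo A₁).surjective w
      exact ⟨w, (Points.schemeHomeo A).injective (by rw [← hw, Points.map_yon_map_apply])⟩
  let O₂ : A.left.Opens :=
    ⟨(Set.range d₁.left)ᶜ, (hr₁ ▸ hjc.preimage (Points.continuous_ofPt aA)).isOpen_compl⟩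
  let A₂ : Over S := openObj A O₂
  let d₂ : A₂ ⟶ A := openHom A O₂
  let κ := ULift.{u} Bool
  let B : κ → Over S := fun c => cond c.down A₁ A₂
  let d : ∀ c : κ, B c ⟶ A := fun c => match c with
    | ⟨true⟩ => d₁
    | ⟨false⟩ => d₂
  let l : ∀ c : κ, (yon S).obj (B c) ⟶ (yon S).obj Z := fun c => match c with
    | ⟨true⟩ => (yon S).map (k₁ ≫ z₁)
    | ⟨false⟩ => ((yon S).map d₂ ≫ aA) ≫ g ≫ (yon S).map z₂
  have hd : ∀ c, IsOpenImmersion (d c).left := fun c => match c with
    | ⟨true⟩ => inferInstanceAs (IsOpenImmersion d₁.left)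
    | ⟨false⟩ => inferInstanceAs (IsOpenImmersion O₂.ι)
  haveI := hd
  haveI : ∀ c, Mono (d c) := fun c => (Over.forget S).mono_of_mono_map (inferInstanceAs (Mono (d c).left))
  have hcov : ∀ a : A.left, ∃ c, a ∈ Set.range (d c).left := fun a => by
    by_cases ha : a ∈ Set.range d₁.left
    · exact ⟨⟨true⟩, ha⟩
    · exact ⟨⟨false⟩, by show a ∈ Set.range O₂.ι; rw [Scheme.Opens.range_ι]; exact ha⟩
  have hne : ∀ (Q : Over S) (w : Q ⟶ A₁) (w' : Q ⟶ A₂), w ≫ d₁ = w' ≫ d₂ → IsEmpty Q.left :=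
    fun Q w w' ew => ⟨fun q => (w'.left q).2 ⟨w.left q, (congrArg (fun k : Q ⟶ A => k.left q) ew)⟩⟩
  obtain ⟨x, hx⟩ := exists_amalgamation d (fun c => inferInstance) (fun c => inferInstance) hcov l
    fun c c' Q w w' ew => by
      rcases eq_or_ne c c' with rfl | hcc
      · rw [(cancel_mono (d c)).1 ew]
      · haveI : IsEmpty Q.left := by
          match c, c', w, w', ew, hcc with
          | ⟨true⟩, ⟨false⟩, w, w', ew, _ => exact hne Q w w' ew
          | ⟨false⟩, ⟨true⟩, w, w', ew, _ => exact hne Q w' w ew.symm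
          | ⟨true⟩, ⟨true⟩, _, _, _, hcc => exact absurd rfl hcc
          | ⟨false⟩, ⟨false⟩, _, _, _, hcc => exact absurd rfl hcc
        haveI := subsingleton_obj_of_isEmpty ((yon S).obj Z) (Z := Q)
        exact (GrothendieckTopology.uliftYonedaEquiv.{u + 1} (J := AlgSp.J S)).injective (Subsingleton.elim _ _)
  have hx₁ : (yon S).map d₁ ≫ x = (yon S).map (k₁ ≫ z₁) := hx ⟨true⟩
  have hx₂ : (yon S).map d₂ ≫ x = ((yon S).map d₂ ≫ aA) ≫ g ≫ (yon S).map z₂ := hx ⟨false⟩
  obtain ⟨gZ, hgZ⟩ := exists_desc_of_atlas haA haAs x fun Q u v e => by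
    choose Qc q r sqQ using fun c => exists_pb u (d c)
    haveI : ∀ c, IsOpenImmersion (q c).left := fun c =>
      MorphismProperty.of_isPullback (P := @IsOpenImmersion) (isPullback_left (sqQ c)).flip inferInstance
    refine AlgSpLib.hom_ext_of_cover q (fun c => inferInstance) (fun c => inferInstance) (fun y => ?_) fun c => ?_
    · obtain ⟨c, a, ha⟩ := hcov (u.left y)
      obtain ⟨y', hy', -⟩ := Scheme.exists_preimage_of_isPullback (isPullback_left (sqQ c)) y a ha.symm
      exact ⟨c, y', hy'⟩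
    have hpt : ∀ y, Points.ofPt aA ((q c ≫ v).left y) = Points.ofPt aA ((d c).left ((r c).left y)) := fun y => by
      rw [← ofPt_yon_comp, ← ofPt_yon_comp, ← ofPt_yon_comp, ← Functor.map_comp_assoc, ← (sqQ c).w,
        Functor.map_comp_assoc, Functor.map_comp_assoc, e]
    rcases c with ⟨_ | _⟩
    · obtain ⟨v', hv'⟩ := exists_lift_open (q ⟨false⟩ ≫ v) O₂ (by
        rintro _ ⟨y, rfl⟩ ⟨w, hw⟩
        have h₂ : (d₂).left ((r ⟨false⟩).left y) ∈ (O₂ : Set A.left) := ((r ⟨false⟩).left y).2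
        refine h₂ ?_
        rw [hr₁, Set.mem_preimage]
        show Points.ofPt aA ((d ⟨false⟩).left ((r ⟨false⟩).left y)) ∈ _
        rw [← hpt y, ← hw, ← Set.mem_preimage (f := Points.ofPt aA), ← hr₁]
        exact ⟨w, rfl⟩)
      have eu : q ⟨false⟩ ≫ u = r ⟨false⟩ ≫ d₂ := (sqQ _).w
      rw [← Functor.map_comp_assoc, ← Functor.map_comp_assoc, eu, ← hv',
        Functor.map_comp_assoc, Functor.map_comp_assoc, hx₂, ← Category.assoc _ ((yon S).map d₂ ≫ aA),
        ← Category.assoc _ ((yon S).map d₂ ≫ aA)]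
      congr 1
      rw [← Functor.map_comp_assoc, ← Functor.map_comp_assoc, ← eu, hv', Functor.map_comp_assoc,
        Functor.map_comp_assoc, e]
    · obtain ⟨v', hv'⟩ : ∃ v', v' ≫ d₁ = q ⟨true⟩ ≫ v := by
        have hsub : Set.range (q ⟨true⟩ ≫ v).left ⊆ Set.range d₁.left := by
          rintro _ ⟨y, rfl⟩
          rw [hr₁, Set.mem_preimage, hpt y, ← Set.mem_preimage (f := Points.ofPt aA), ← hr₁]
          exact ⟨(r ⟨true⟩).left y, rfl⟩
        refine ⟨Over.homMk (IsOpenImmersion.lift d₁.left _ hsub) ?_, Over.OverMorphism.ext (IsOpenImmersion.lift_fac _ _ _)⟩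
        rw [← Over.w d₁, IsOpenImmersion.lift_fac_assoc, Over.w (q ⟨true⟩ ≫ v)]
      have eu : q ⟨true⟩ ≫ u = r ⟨true⟩ ≫ d₁ := (sqQ _).w
      rw [← Functor.map_comp_assoc, ← Functor.map_comp_assoc, eu, ← hv',
        Functor.map_comp_assoc, Functor.map_comp_assoc, hx₁, (yon S).map_comp k₁ z₁, ← Category.assoc,
        ← Category.assoc]
      congr 1
      rw [← cancel_mono j, Category.assoc, Category.assoc, sq₁.w, ← Functor.map_comp_assoc,
        ← Functor.map_comp_assoc, ← eu, hv', Functor.map_comp_assoc, Functor.map_comp_assoc, e]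
  have sq₁' : IsPullback ((yon S).map d₁) ((yon S).map k₁) aA j := sq₁.flip
  have hjgZ : j ≫ gZ = (yon S).map z₁ :=
    hom_ext_of_atlas (repWith_of_isPullback sq₁' haA) (repWith_of_isPullback sq₁' haAs) (by
      rw [reassoc_of% sq₁.w, hgZ, hx₁, Functor.map_comp])
  have hgZz : gZ ≫ (yon S).map z = p := hom_ext_of_atlas haA haAs (by
    rw [reassoc_of% hgZ]
    refine AlgSpLib.hom_ext_of_cover d (fun c => inferInstance) (fun c => inferInstance) hcov fun c => ?_
    rcases c with ⟨_ | _⟩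
    · show (yon S).map d₂ ≫ x ≫ (yon S).map z = (yon S).map d₂ ≫ aA ≫ p
      rw [reassoc_of% hx₂, ← Functor.map_comp, hz₂, hn.1]
    · show (yon S).map d₁ ≫ x ≫ (yon S).map z = (yon S).map d₁ ≫ aA ≫ p
      rw [reassoc_of% hx₁, ← Functor.map_comp, Category.assoc, hz₁, ← reassoc_of% sq₁.w, hi, Functor.map_comp])
  have hgZm : gZ ≫ (yon S).map m = g := hom_ext_of_atlas haA haAs (by
    rw [reassoc_of% hgZ]
    refine AlgSpLib.hom_ext_of_cover d (fun c => inferInstance) (fun c => inferInstance) hcov fun c => ?_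
    rcases c with ⟨_ | _⟩
    · show (yon S).map d₂ ≫ x ≫ (yon S).map m = (yon S).map d₂ ≫ aA ≫ g
      rw [reassoc_of% hx₂, ← Functor.map_comp, hm₂, CategoryTheory.Functor.map_id, Category.comp_id]
    · show (yon S).map d₁ ≫ x ≫ (yon S).map m = (yon S).map d₁ ≫ aA ≫ g
      rw [reassoc_of% hx₁, ← Functor.map_comp, Category.assoc, hm₁, Functor.map_comp, hk, reassoc_of% sq₁.w])
  haveI : IsIntegralHom z.left := inferInstanceAs (IsIntegralHom (coprod.desc i.left μ.left))
  have hzi : IsIntegralMor ((yon S).map z) :=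
    isIntegralMor_iff.2 ((repWith_yon_map_iff (P := (@IsIntegralHom : MorphismProperty Scheme.{u})) z).2 inferInstance)
  obtain ⟨h₀, ⟨hg₀, hh₀⟩, -⟩ := hn.2.2 (IsAlgSpace.yon_obj Z) _ gZ hzi hgZz
  obtain ⟨h, rfl⟩ := (yon S).map_surjective h₀
  have hhz : h ≫ z = μ := (yon S).map_injective (by rw [Functor.map_comp, hh₀])
  have hmμ : m ≫ μ = z := Over.OverMorphism.ext (coprod.hom_ext
    (by show coprod.inl ≫ coprod.desc k.left (𝟙 _) ≫ μ.left = coprod.inl ≫ coprod.desc i.left μ.left
        rw [coprod.inl_desc_assoc, coprod.inl_desc, ← Over.comp_left, hkμ])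
    (by show coprod.inr ≫ coprod.desc k.left (𝟙 _) ≫ μ.left = coprod.inr ≫ coprod.desc i.left μ.left
        rw [coprod.inr_desc_assoc, coprod.inr_desc, Category.id_comp]))
  have hεid : h ≫ m = 𝟙 N := (yon S).map_injective
    ((hn.2.2 (IsAlgSpace.yon_obj N) ((yon S).map μ) g hn.2.1 hn.1).unique
      ⟨by rw [Functor.map_comp, reassoc_of% hg₀, hgZm],
        by rw [← Functor.map_comp, Category.assoc, hmμ, hhz]⟩
      ⟨by rw [CategoryTheory.Functor.map_id, Category.comp_id], by rw [CategoryTheory.Functor.map_id, Category.id_comp]⟩)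
  have hkh : k ≫ h = z₁ := (yon S).map_injective (by rw [Functor.map_comp, hk, Category.assoc, hg₀, hjgZ])
  haveI : IsOpenImmersion z₁.left := inferInstanceAs (IsOpenImmersion (coprod.inl : I.left ⟶ I.left ⨿ N.left))
  haveI : Mono z₁ := (Over.forget S).mono_of_mono_map (inferInstanceAs (Mono z₁.left))
  have sqk : IsPullback (𝟙 I) k z₁ h :=
    ⟨⟨by rw [Category.id_comp, hkh]⟩, ⟨PullbackCone.IsLimit.mk _ (fun c => c.fst) (fun c => Category.comp_id _)
      (fun c => by rw [← Category.comp_id c.snd, ← hεid, ← reassoc_of% c.condition, hm₁])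
      (fun c m hm _ => by simpa using hm)⟩⟩
  haveI : IsOpenImmersion k.left :=
    MorphismProperty.of_isPullback (P := @IsOpenImmersion) (isPullback_left sqk) inferInstance
  refine ⟨k, inferInstance, ⟨⟨by rw [Category.id_comp, hk]⟩, ⟨PullbackCone.IsLimit.mk _ (fun c => c.snd)
    (fun c => ?_) (fun c => Category.comp_id _) (fun c m _ hm => by simpa using hm)⟩⟩⟩
  have e₁ : c.fst ≫ gZ = c.snd ≫ (yon S).map z₁ := by
    rw [← hg₀, reassoc_of% c.condition, ← Functor.map_comp, hkh]
  obtain ⟨l', hl'⟩ := (exists_factor_iff hj c.fst).2 (by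
    rintro _ ⟨q, rfl⟩
    obtain ⟨a, ha⟩ := map_surjective_of_repWith haAs (Points.map c.fst q)
    obtain ⟨a, rfl⟩ := (Points.schemeHomeo A).surjective a
    by_contra hq
    have ha₂ : a ∈ O₂ := fun hmem => hq (by
      rw [← ha]
      exact (Points.ofPt_eq_map_ofScheme aA a) ▸ (hr₁.le hmem))
    have e₂ := congrArg (fun k : c.pt ⟶ (yon S).obj Z => Points.map k q) e₁
    simp only [Points.map_comp] at e₂
    rw [← ha, ← Points.map_comp, hgZ] at e₂
    obtain ⟨w, hw⟩ := (Points.schemeHomeo I).surjective (Points.map c.snd q)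
    rw [← hw, Points.map_yon_map_apply] at e₂
    let a₂ : A₂.left := ⟨a, ha₂⟩
    have e₃ : Points.map x (Points.schemeHomeo A a) =
        Points.map (((yon S).map d₂ ≫ aA) ≫ g ≫ (yon S).map z₂) (Points.schemeHomeo A₂ a₂) := by
      rw [← hx₂, Points.map_comp, Points.map_yon_map_apply]
      rfl
    rw [e₃, ← Category.assoc, Points.map_comp] at e₂
    obtain ⟨n, hn'⟩ := (Points.schemeHomeo N).surjective
      (Points.map (((yon S).map d₂ ≫ aA) ≫ g) (Points.schemeHomeo A₂ a₂))
    rw [← hn', Points.map_yon_map_apply] at e₂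
    exact Set.disjoint_left.1 (isCompl_range_inl_inr I.left N.left).1 ⟨w, rfl⟩
      ⟨n, (Points.schemeHomeo Z).injective e₂⟩)
  have hl₂ : l' = c.snd := by
    rw [← cancel_mono ((yon S).map z₁), ← hjgZ, reassoc_of% hl', e₁, hjgZ]
  rw [← hl₂, hl']

end NormSpLib
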